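import Mathlib
import Cfsg.Prelude.Def_SubgroupEmbedding
import Cfsg.Agent.Lib.Coprime.Action
import Cfsg.Agent.Lib.CharTheory.QuasiElementary

/-!
# The twisting subgroups of an abelian extremely closed p-subgroup

For an abelian extremely closed p-subgroup `H`, the group generated by `H` and a conjugate of it
has a normal p-complement `K` meeting the normaliser of `H` trivially, and the conjugate is
`k H k⁻¹` with `k ∈ K`.
-/

set_option autoImplicit false
set_option linter.style.haveILetI false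
set_option linter.unusedSectionVars false

namespace Cfsg.Agent.ExtremelyClosedOdd.Pair

universe u

variable {G : Type u} [Group G] [Finite G] {p : ℕ} [hpf : Fact p.Prime]

/-- The element `g` twists `H` by an element `k` of the subgroup `K` of order prime to `p`. -/
structure IsTwist (p : ℕ) (H : Subgroup G) (g k : G) (K : Subgroup G) : Prop where
  cop : ¬ p ∣ Nat.card K
  inv : ∀ h ∈ H, ∀ x ∈ K, h * x * h⁻¹ ∈ K
  mem : k ∈ K
  norm : k⁻¹ * g ∈ Subgroup.normalizer (H : Set G)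
  disj : ∀ x ∈ K, x ∈ Subgroup.normalizer (H : Set G) → x = 1
  le : K ≤ H ⊔ H.map (MulAut.conj g).toMonoidHom
  decomp : ∀ x ∈ H ⊔ H.map (MulAut.conj g).toMonoidHom, ∃ a ∈ K, ∃ h ∈ H, x = a * h

theorem mem_conj_iff {H : Subgroup G} {g x : G} :
    x ∈ H.map (MulAut.conj g).toMonoidHom ↔ g⁻¹ * x * g ∈ H := by
  rw [Subgroup.mem_map_equiv, MulAut.conj_symm_apply]

theorem mem_normalizer_of_le {H : Subgroup G} {a : G}
    (h : ∀ x ∈ H, a * x * a⁻¹ ∈ H) : a ∈ Subgroup.normalizer (H : Set G) := by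
  have hle : H.map (MulAut.conj a).toMonoidHom ≤ H := by
    rintro _ ⟨x, hx, rfl⟩
    exact h x hx
  have heq := Subgroup.eq_of_le_of_card_ge hle
    (Subgroup.card_map_of_injective (MulAut.conj a).injective).ge
  refine Subgroup.mem_normalizer_iff.2 fun x => ⟨h x, fun hx => ?_⟩
  have hx' : a * x * a⁻¹ ∈ H.map (MulAut.conj a).toMonoidHom := by rw [heq]; exact hx
  rw [mem_conj_iff] at hx'
  simpa [mul_assoc] using hx'

theorem commute_of_mem {H : Subgroup G} (hab : IsMulCommutative H) {a b : G} (ha : a ∈ H)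
    (hb : b ∈ H) : a * b = b * a :=
  congrArg Subtype.val (hab.is_comm.comm (⟨a, ha⟩ : H) ⟨b, hb⟩)

theorem eq_one_of_not_dvd_pow {x : G} (hx : ¬ p ∣ orderOf x) {a : ℕ} (h : x ^ p ^ a = 1) :
    x = 1 := by
  rw [← orderOf_eq_one_iff]
  obtain ⟨j, -, hj⟩ := (Nat.dvd_prime_pow hpf.out).1 (orderOf_dvd_of_pow_eq_one h)
  cases j with
  | zero => simpa using hj
  | succ j => exact absurd (hj ▸ dvd_pow_self p j.succ_ne_zero) hx

theorem mem_of_not_dvd_pow {S : Subgroup G} {x : G} (hx : ¬ p ∣ orderOf x) {a : ℕ}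
    (h : x ^ p ^ a ∈ S) : x ∈ S := by
  obtain ⟨b, hb⟩ := exists_pow_eq_self_of_coprime (x := x) (n := p ^ a)
    (Nat.Coprime.pow_left a (hpf.out.coprime_iff_not_dvd.2 hx))
  exact hb ▸ pow_mem h b

theorem not_dvd_orderOf {K : Subgroup G} (hK : ¬ p ∣ Nat.card K) {x : G} (hx : x ∈ K) :
    ¬ p ∣ orderOf x := fun h => hK (h.trans (K.orderOf_dvd_natCard hx))

theorem coprime_card {H K : Subgroup G} (hH : IsPGroup p H) (hK : ¬ p ∣ Nat.card K) :
    (Nat.card H).Coprime (Nat.card K) := by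
  obtain ⟨n, hn⟩ := IsPGroup.iff_card.1 hH
  rw [hn]
  exact Nat.Coprime.pow_left n (hpf.out.coprime_iff_not_dvd.2 hK)

theorem eq_one_of_mem_inf {H K : Subgroup G} (hH : IsPGroup p H) (hK : ¬ p ∣ Nat.card K) {x : G}
    (hxH : x ∈ H) (hxK : x ∈ K) : x = 1 := by
  obtain ⟨a, ha⟩ := hH ⟨x, hxH⟩
  exact eq_one_of_not_dvd_pow (not_dvd_orderOf hK hxK) (congrArg Subtype.val ha)

/-- An element of order prime to `p` in `N H`, for a p-subgroup `H` normalising `N`, lies in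
`N`. -/
theorem mem_of_mem_sup' {N H : Subgroup G} (hHN : H ≤ Subgroup.normalizer (N : Set G))
    (hH : IsPGroup p H) {x : G} (hx : ¬ p ∣ orderOf x) (hmem : x ∈ N ⊔ H) : x ∈ N := by
  obtain ⟨n, hn, h, hh, rfl⟩ := (Coprime.mem_sup_of_le_normalizer hHN).1 hmem
  obtain ⟨a, ha⟩ := hH ⟨h, hh⟩
  have ha' : h ^ p ^ a = 1 := congrArg Subtype.val ha
  have key : ∀ j : ℕ, (n * h) ^ j * (h ^ j)⁻¹ ∈ N := by
    intro j
    induction j with
    | zero => simp
    | succ j ih =>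
      rw [show (n * h) ^ (j + 1) * (h ^ (j + 1))⁻¹ = n * (h * ((n * h) ^ j * (h ^ j)⁻¹) * h⁻¹) by
        rw [pow_succ' (n * h), pow_succ' h, mul_inv_rev]
        group]
      exact mul_mem hn ((Subgroup.mem_normalizer_iff.1 (hHN hh) _).1 ih)
  refine mem_of_not_dvd_pow hx (a := a) ?_
  have := key (p ^ a)
  rwa [ha', inv_one, mul_one] at this

/-- An element of order prime to `p` in `N ⊔ H`, for normal `N` and a p-subgroup `H`, lies in
`N`. -/
theorem mem_of_mem_sup {N H : Subgroup G} [N.Normal] (hH : IsPGroup p H) {x : G}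
    (hx : ¬ p ∣ orderOf x) (hmem : x ∈ N ⊔ H) : x ∈ N :=
  mem_of_mem_sup' Subgroup.le_normalizer_of_normal hH hx hmem

/-- An element `u r` with `r` in an invariant p'-subgroup `K` is conjugate under `K` to `u s`
with `s ∈ K` centralising the p-element `u`. -/
theorem exists_conj_mul {K : Subgroup G} (hK : ¬ p ∣ Nat.card K) {u r : G}
    (hu : ∃ a : ℕ, orderOf u = p ^ a) (hinv : ∀ x ∈ K, u * x * u⁻¹ ∈ K) (hr : r ∈ K) :
    ∃ c ∈ K, ∃ s ∈ K, Commute u s ∧ c * (u * r) * c⁻¹ = u * s := by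
  have huN : u ∈ Subgroup.normalizer (K : Set G) := mem_normalizer_of_le hinv
  have hA : Subgroup.zpowers u ≤ Subgroup.normalizer (K : Set G) := Subgroup.zpowers_le.2 huN
  have hpg : ∀ v : G, (∃ a : ℕ, orderOf v = p ^ a) → IsPGroup p (Subgroup.zpowers v) :=
    fun v ⟨a, ha⟩ => IsPGroup.of_card (n := a) (by rw [Nat.card_zpowers, ha])
  obtain ⟨b, a, hw, hcomm, hb, -, ha, hbcop⟩ :=
    CharTheory.QuasiElementary.exists_pPart_decomp (u * r) hpf.out
  have hR : ∀ x ∈ Subgroup.zpowers (u * r), x ∈ K ⊔ Subgroup.zpowers u := fun x hx =>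
    Subgroup.zpowers_le.2 (mul_mem (Subgroup.mem_sup_right (Subgroup.mem_zpowers u))
      (Subgroup.mem_sup_left hr)) hx
  have hbK : b ∈ K := mem_of_mem_sup' hA (hpg u hu)
    (hpf.out.coprime_iff_not_dvd.1 hbcop.symm) (hR b hb)
  have hua : u⁻¹ * a ∈ K := by
    rw [show u⁻¹ * a = r * b⁻¹ by
      rw [show a = u * r * b⁻¹ by rw [hw, hcomm.eq, mul_inv_cancel_right]]; group]
    exact mul_mem hr (inv_mem hbK)
  have haN : a ∈ Subgroup.normalizer (K : Set G) := by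
    rw [show a = u * (u⁻¹ * a) by group]
    exact mul_mem huN (Subgroup.le_normalizer hua)
  have heq : K ⊔ Subgroup.zpowers a = K ⊔ Subgroup.zpowers u := by
    refine le_antisymm (sup_le le_sup_left (Subgroup.zpowers_le.2 ?_))
      (sup_le le_sup_left (Subgroup.zpowers_le.2 ?_))
    · rw [show a = u * (u⁻¹ * a) by group]
      exact mul_mem (Subgroup.mem_sup_right (Subgroup.mem_zpowers u)) (Subgroup.mem_sup_left hua)
    · rw [show u = a * (u⁻¹ * a)⁻¹ by group]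
      exact mul_mem (Subgroup.mem_sup_right (Subgroup.mem_zpowers a))
        (Subgroup.mem_sup_left (inv_mem hua))
  obtain ⟨c, hc, hconj⟩ := Coprime.exists_conj_eq_of_sup_eq (Subgroup.zpowers_le.2 haN) hA heq
    (coprime_card (hpg a ha) hK).symm (coprime_card (hpg u hu) hK).symm
    (Or.inr (Coprime.isSolvable_of_isMulCommutative _))
  have hca : c * a * c⁻¹ ∈ Subgroup.zpowers u :=
    hconj ▸ Coprime.conj_mem_conj_smul (Subgroup.mem_zpowers a)
  have hceq : c * a * c⁻¹ = u := by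
    refine mul_inv_eq_one.1 (eq_one_of_mem_inf (hpg u hu) hK
      (mul_mem hca (inv_mem (Subgroup.mem_zpowers u))) ?_)
    rw [show c * a * c⁻¹ * u⁻¹ = c * (a * c⁻¹ * a⁻¹) * (u * (u⁻¹ * a) * u⁻¹) by group]
    exact mul_mem (mul_mem hc ((Subgroup.mem_normalizer_iff.1 haN _).1 (inv_mem hc)))
      (hinv _ hua)
  refine ⟨c, hc, c * b * c⁻¹, mul_mem (mul_mem hc hbK) (inv_mem hc), ?_, ?_⟩
  · rw [← hceq]; exact hcomm.symm.map (MulAut.conj c).toMonoidHom
  · rw [hw, hcomm.eq]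
    calc c * (a * b) * c⁻¹ = c * a * c⁻¹ * (c * b * c⁻¹) := by group
      _ = _ := by rw [hceq]

/-- If `u` fixes no nontrivial element of `K` then `u r` is conjugate to `u` for `r ∈ K`. -/
theorem exists_conj_eq {K : Subgroup G} (hK : ¬ p ∣ Nat.card K) {u r : G}
    (hu : ∃ a : ℕ, orderOf u = p ^ a) (hinv : ∀ x ∈ K, u * x * u⁻¹ ∈ K)
    (hfix : ∀ s ∈ K, Commute u s → s = 1) (hr : r ∈ K) :
    ∃ c ∈ K, c * u * c⁻¹ = u * r := by
  obtain ⟨c, hc, s, hs, hcomm, he⟩ := exists_conj_mul hK hu hinv hr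
  refine ⟨c⁻¹, inv_mem hc, ?_⟩
  rw [hfix s hs hcomm, mul_one] at he
  calc c⁻¹ * u * c⁻¹⁻¹ = c⁻¹ * (c * (u * r) * c⁻¹) * c⁻¹⁻¹ := by rw [he]
    _ = u * r := by group

theorem exists_twist (H : Subgroup G) (hp : IsPGroup p H) (hab : IsMulCommutative H)
    (hcl : Cfsg.IsExtremelyClosed H) (g : G) :
    ∃ (k : G) (K : Subgroup G), IsTwist p H g k K := by
  set M := H ⊔ H.map (MulAut.conj g).toMonoidHom with hM
  have hHM : H ≤ M := le_sup_left
  have hself : ∀ x ∈ M, x ∈ Subgroup.normalizer (H : Set G) → x ∈ H := fun x hx hn =>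
    (hcl g).le ⟨hx, hn⟩
  set H' := H.subgroupOf M with hH'
  have hH'p : IsPGroup p H' := hp.of_equiv (Subgroup.subgroupOfEquivOfLe hHM).symm
  obtain ⟨P, hHP⟩ := hH'p.exists_le_sylow
  have hPH : (P : Subgroup M) = H' := by
    refine le_antisymm ?_ hHP
    by_contra hle
    haveI : Group.IsNilpotent (P : Subgroup M) := P.2.isNilpotent
    have hlt : H'.subgroupOf (P : Subgroup M) < ⊤ :=
      lt_top_iff_ne_top.2 fun h => hle (Subgroup.subgroupOf_eq_top.1 h)
    obtain ⟨x, hxn, hx⟩ := SetLike.exists_of_lt (Group.normalizerCondition_of_isNilpotent _ hlt)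
    refine hx (show (x : M) ∈ H' from hself _ (x : M).2 (mem_normalizer_of_le fun h hh => ?_))
    exact (Subgroup.mem_normalizer_iff.1 hxn ⟨⟨h, hHM hh⟩, hHP hh⟩).1 hh
  have hmemP : ∀ x : M, x ∈ (P : Subgroup M) ↔ (x : G) ∈ H := fun x => by
    rw [hPH]; exact Subgroup.mem_subgroupOf
  have hPc : Subgroup.normalizer ((P : Subgroup M) : Set M) ≤
      Subgroup.centralizer ((P : Subgroup M) : Set M) := by
    intro x hx
    have hxH : (x : G) ∈ H := hself _ x.2 (mem_normalizer_of_le fun h hh =>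
      (hmemP _).1 ((Subgroup.mem_normalizer_iff.1 hx ⟨h, hHM hh⟩).1 ((hmemP _).2 hh)))
    refine Subgroup.mem_centralizer_iff.2 fun y hy => Subtype.ext ?_
    show (y : G) * (x : G) = (x : G) * (y : G)
    exact commute_of_mem hab ((hmemP y).1 hy) hxH
  have hc := MonoidHom.ker_transferSylow_isComplement' P hPc
  set K₀ := (MonoidHom.transferSylow P hPc).ker with hK₀
  set K := K₀.map M.subtype with hK
  have hdec : ∀ x : M, ∃ a ∈ K₀, ∃ b ∈ (P : Subgroup M), x = a * b := fun x => by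
    obtain ⟨⟨a, b⟩, hab'⟩ := hc.2 x
    exact ⟨a, a.2, b, b.2, hab'.symm⟩
  -- the conjugate of `H`
  set T := (H.map (MulAut.conj g).toMonoidHom).subgroupOf M with hT
  have hTp : IsPGroup p T :=
    (hp.map _).of_equiv (Subgroup.subgroupOfEquivOfLe (le_sup_right (a := H))).symm
  obtain ⟨Q, hTQ⟩ := hTp.exists_le_sylow
  obtain ⟨m, hm⟩ := MulAction.exists_smul_eq M P Q
  obtain ⟨a, ha, b, hb, rfl⟩ := hdec m
  refine ⟨a, K, ?_, ?_, ⟨a, ha, rfl⟩, ?_, ?_, ?_, ?_⟩
  · rw [hK, Subgroup.card_map_of_injective M.subtype_injective, ← hc.index_eq_card]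
    exact P.not_dvd_index
  · rintro h hh x ⟨y, hy, rfl⟩
    have hn : K₀.Normal := MonoidHom.normal_ker _
    refine ⟨_, hn.conj_mem y hy ⟨h, hHM hh⟩, ?_⟩
    simp only [Subgroup.coe_subtype, Subgroup.coe_mul, Subgroup.coe_inv]
  · refine mem_normalizer_of_le fun h hh => ?_
    have hgh : g * h * g⁻¹ ∈ M := Subgroup.mem_sup_right ⟨h, hh, rfl⟩
    have hQ : (⟨g * h * g⁻¹, hgh⟩ : M) ∈ (Q : Subgroup M) := hTQ ⟨h, hh, rfl⟩
    rw [← hm] at hQ
    have h2 := (hmemP _).1 (Subgroup.mem_pointwise_smul_iff_inv_smul_mem.1 hQ)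
    simp only [MulAut.inv_def, MulAut.smul_def, MulAut.conj_symm_apply, Subgroup.coe_mul,
      Subgroup.coe_inv, mul_inv_rev] at h2
    have hbH : (b : G) ∈ H := (hmemP b).1 hb
    convert mul_mem (mul_mem hbH h2) (inv_mem hbH) using 1
    group
  · rintro _ ⟨y, hy, rfl⟩ hn
    have hyP : y ∈ (P : Subgroup M) := (hmemP y).2 (hself _ y.2 hn)
    rw [Subgroup.disjoint_def.1 hc.disjoint hy hyP]
    rfl
  · exact Subgroup.map_subtype_le _
  · intro x hx
    obtain ⟨a', ha', b', hb', he⟩ := hdec ⟨x, hx⟩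
    exact ⟨a', ⟨a', ha', rfl⟩, b', (hmemP b').1 hb', congrArg Subtype.val he⟩

/-- An element of a twisting subgroup that normalises `H` modulo a normal subgroup `N` lies in
`N`. -/
theorem mem_of_conj_le {H K N : Subgroup G} [N.Normal] (hp : IsPGroup p H)
    (hK : ¬ p ∣ Nat.card K) (hinv : ∀ h ∈ H, ∀ x ∈ K, h * x * h⁻¹ ∈ K)
    (hdisj : ∀ x ∈ K, x ∈ Subgroup.normalizer (H : Set G) → x = 1) {s : G} (hs : s ∈ K)
    (hsH : ∀ h ∈ H, s * h * s⁻¹ ∈ N ⊔ H) : s ∈ N := by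
  have hodd : ∀ x ∈ K, ¬ p ∣ orderOf x := fun x hx => not_dvd_orderOf hK hx
  set X := K ⊓ N with hX
  have hHX : H ≤ Subgroup.normalizer (X : Set G) := fun h hh => mem_normalizer_of_le fun x hx =>
    ⟨hinv h hh x hx.1, (inferInstance : N.Normal).conj_mem x hx.2 h⟩
  set R := X ⊔ H with hR
  have hHR : H ≤ R := le_sup_right
  set H' := H.subgroupOf R with hH'
  have hH'p : IsPGroup p H' := hp.of_equiv (Subgroup.subgroupOfEquivOfLe hHR).symm
  obtain ⟨P, hHP⟩ := hH'p.exists_le_sylow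
  have hdec : ∀ x ∈ R, ∃ a ∈ X, ∃ b ∈ H, x = a * b := by
    intro x hx
    obtain ⟨a, ha, b, hb, he⟩ := (Coprime.mem_sup_of_le_normalizer hHX).1 hx
    exact ⟨a, ha, b, hb, he.symm⟩
  have hPH : ∀ x : R, x ∈ (P : Subgroup R) → (x : G) ∈ H := by
    intro x hx
    obtain ⟨a, ha, b, hb, he⟩ := hdec _ x.2
    have hbP : (⟨b, hHR hb⟩ : R) ∈ (P : Subgroup R) := hHP hb
    have haP : x * (⟨b, hHR hb⟩ : R)⁻¹ ∈ (P : Subgroup R) := mul_mem hx (inv_mem hbP)
    obtain ⟨i, hi⟩ := P.2 ⟨_, haP⟩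
    have hval : ((x * (⟨b, hHR hb⟩ : R)⁻¹ : R) : G) = a := by simp [he]
    have hi' : a ^ p ^ i = 1 := by
      rw [← hval]; simpa using congrArg (fun z : (P : Subgroup R) => ((z : R) : G)) hi
    rw [he, eq_one_of_not_dvd_pow (hodd a ha.1) hi', one_mul]
    exact hb
  have hconj : ∀ h ∈ H, s * h * s⁻¹ ∈ R := by
    intro h hh
    have hq : s * h * s⁻¹ * h⁻¹ ∈ X := by
      have h1 : s * h * s⁻¹ * h⁻¹ ∈ K := by
        rw [show s * h * s⁻¹ * h⁻¹ = s * (h * s⁻¹ * h⁻¹) by group]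
        exact mul_mem hs (hinv h hh _ (inv_mem hs))
      exact ⟨h1, mem_of_mem_sup hp (hodd _ h1)
        (mul_mem (hsH h hh) (Subgroup.mem_sup_right (inv_mem hh)))⟩
    rw [show s * h * s⁻¹ = s * h * s⁻¹ * h⁻¹ * h by group]
    exact mul_mem (Subgroup.mem_sup_left hq) (Subgroup.mem_sup_right hh)
  set T := (H.map (MulAut.conj s).toMonoidHom).subgroupOf R with hT
  have hTle : H.map (MulAut.conj s).toMonoidHom ≤ R := by
    rintro _ ⟨h, hh, rfl⟩; exact hconj h hh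
  have hTp : IsPGroup p T := (hp.map _).of_equiv (Subgroup.subgroupOfEquivOfLe hTle).symm
  obtain ⟨Q, hTQ⟩ := hTp.exists_le_sylow
  obtain ⟨r, hr⟩ := MulAction.exists_smul_eq R P Q
  obtain ⟨a, ha, b, hb, he⟩ := hdec _ r.2
  have key : a⁻¹ * s ∈ Subgroup.normalizer (H : Set G) := by
    refine mem_normalizer_of_le fun h hh => ?_
    have hQ : (⟨s * h * s⁻¹, hconj h hh⟩ : R) ∈ (Q : Subgroup R) := hTQ ⟨h, hh, rfl⟩
    rw [← hr] at hQ
    have h2 := hPH _ (Subgroup.mem_pointwise_smul_iff_inv_smul_mem.1 hQ)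
    simp only [MulAut.inv_def, MulAut.smul_def, MulAut.conj_symm_apply, Subgroup.coe_mul,
      Subgroup.coe_inv, he, mul_inv_rev] at h2
    convert mul_mem (mul_mem hb h2) (inv_mem hb) using 1
    group
  rw [show s = a from (inv_mul_eq_one.1 (hdisj _ (mul_mem (inv_mem ha.1) hs) key)).symm]
  exact ha.2

end Cfsg.Agent.ExtremelyClosedOdd.Pair
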