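import Mathlib
import Cfsg.Agent.Lib.Characters.Counting
import Cfsg.Agent.Lib.Characters.Kernel
import Cfsg.Agent.BlocksChars.Codegree
import Cfsg.Agent.Lib.ExtremelyClosed.Values

/-!
# Character values at commutators with an abelian subgroup, and squaring relations
-/

set_option autoImplicit false
set_option linter.style.haveILetI false
set_option linter.unusedSectionVars false

namespace Cfsg.Agent.ExtremelyClosedOdd.Values

open Cfsg.Agent.Characters
open scoped ComplexConjugate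
open Module

universe u

variable {G : Type u} [Group G] [Finite G]

/-- A fixed subspace bounds the real part of a character from below. -/
theorem rep_re_ge_of_fixed {V : Type*} [AddCommGroup V] [Module ℂ V] [FiniteDimensional ℂ V]
    (ρ : Representation ℂ G V) (g : G) (W : Submodule ℂ V) (hW : ∀ v ∈ W, ρ g v = v) :
    2 * (finrank ℂ W : ℝ) - finrank ℂ V ≤ (ρ.character g).re := by
  classical
  obtain ⟨bs, w, hw, h⟩ := exists_eigenbasis ρ g
  have hle : W ≤ Submodule.span ℂ (bs '' {i | w i = 1}) := by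
    intro v hv
    rw [Basis.mem_span_image]
    intro i hi
    have h1 : bs.repr (ρ g v) i = w i * bs.repr v i := by
      conv_lhs => rw [← bs.sum_repr v]
      rw [map_sum, map_sum, Finsupp.finsetSum_apply, Finset.sum_eq_single i]
      · rw [map_smul, h, map_smul, map_smul, bs.repr_self]
        simp [mul_comm]
      · intro j _ hj
        rw [map_smul, h, map_smul, map_smul, bs.repr_self]
        simp [hj]
      · simp
    rw [hW v hv] at h1
    show w i = 1
    exact (mul_eq_right₀ (Finsupp.mem_support_iff.1 hi)).1 h1.symm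
  have hcard : finrank ℂ W ≤ (Finset.univ.filter fun i => w i = 1).card := by
    refine (Submodule.finrank_mono hle).trans (le_of_eq ?_)
    have hli := bs.linearIndependent.comp
      (fun i : {i // w i = 1} => (i : Fin (finrank ℂ V))) Subtype.val_injective
    rw [show (bs '' {i | w i = 1}) =
        Set.range (bs ∘ fun i : {i // w i = 1} => (i : Fin (finrank ℂ V))) by ext v; simp,
      finrank_span_eq_card hli, Fintype.card_subtype]
  have hre : (ρ.character g).re = ∑ i, (w i).re := by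
    rw [show ρ.character g = ∑ i, w i from trace_of_eigenbasis bs w h, Complex.re_sum]
  have hterm : ∀ i, 2 * (if w i = 1 then (1 : ℝ) else 0) - 1 ≤ (w i).re := fun i => by
    split_ifs with hi
    · norm_num [hi]
    · have hn := Complex.norm_eq_one_of_pow_eq_one (hw i) (orderOf_pos g).ne'
      have := (abs_le.1 (Complex.abs_re_le_norm (w i))).1
      rw [hn] at this
      linarith
  have hsum := Finset.sum_le_sum (s := Finset.univ) fun i _ => hterm i
  rw [Finset.sum_sub_distrib, ← Finset.mul_sum, Finset.sum_boole] at hsum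
  simp only [Finset.sum_const, Finset.card_univ, Fintype.card_fin, nsmul_eq_mul, mul_one] at hsum
  rw [hre]
  have : (finrank ℂ W : ℝ) ≤ ((Finset.univ.filter fun i => w i = 1).card : ℝ) := by
    exact_mod_cast hcard
  linarith

/-- The real part of a character at `t (k y k⁻¹)` for `t, y` in `H`, from the average over `H`. -/
theorem re_twist_ge {χ : G → ℂ} (hχ : Cfsg.IsCharacter G χ) (H : Subgroup G) [Fintype H] {m : ℕ}
    (hm : ∑ e : H, χ e = (Nat.card H : ℂ) * m) {t y : G} (ht : t ∈ H) (hy : y ∈ H) (k : G) :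
    4 * (m : ℝ) - 3 * (χ 1).re ≤ (χ (t * (k * y * k⁻¹))).re := by
  obtain ⟨n, ρ, rfl⟩ := hχ
  set σ : Representation ℂ H (Fin n → ℂ) := ρ.comp H.subtype with hσ
  haveI : Invertible (Fintype.card H : ℂ) :=
    invertibleOfNonzero (Nat.cast_ne_zero.2 Fintype.card_ne_zero)
  set W := σ.invariants with hW
  have hfin : finrank ℂ W = m := by
    have htr := (Representation.isProj_averageMap σ).trace
    have hav : LinearMap.trace ℂ (Fin n → ℂ) σ.averageMap =
        (Fintype.card H : ℂ)⁻¹ * ∑ e : H, ρ.character e := by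
      simp [Representation.averageMap, GroupAlgebra.average, map_sum, Representation.character, hσ]
    rw [hav, hm, Nat.card_eq_fintype_card, ← mul_assoc,
      inv_mul_cancel₀ (Nat.cast_ne_zero.2 Fintype.card_ne_zero), one_mul] at htr
    exact_mod_cast htr.symm
  have hfix : ∀ h ∈ H, ∀ v ∈ W, ρ h v = v := fun h hh v hv => hv ⟨h, hh⟩
  set e : (Fin n → ℂ) ≃ₗ[ℂ] (Fin n → ℂ) :=
    LinearEquiv.ofBijective (ρ k) (Function.bijective_iff_has_inverse.2 ⟨ρ k⁻¹,
      fun v => by rw [← Module.End.mul_apply, ← map_mul, inv_mul_cancel, map_one]; rfl,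
      fun v => by rw [← Module.End.mul_apply, ← map_mul, mul_inv_cancel, map_one]; rfl⟩) with he
  set W' := W.map (e : (Fin n → ℂ) →ₗ[ℂ] (Fin n → ℂ)) with hW'
  have hfin' : finrank ℂ W' = m := by rw [hW', LinearEquiv.finrank_map_eq, hfin]
  have hboth : ∀ v ∈ W ⊓ W', ρ (t * (k * y * k⁻¹)) v = v := by
    rintro v ⟨hv, hv'⟩
    obtain ⟨w, hw, rfl⟩ := Submodule.mem_map.1 hv'
    have hkw : ρ (k * y * k⁻¹) (ρ k w) = ρ k w := by
      rw [← Module.End.mul_apply, ← map_mul, inv_mul_cancel_right, map_mul, Module.End.mul_apply,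
        hfix y hy w hw]
    show ρ (t * (k * y * k⁻¹)) (ρ k w) = ρ k w
    rw [map_mul, Module.End.mul_apply, hkw]
    exact hfix t ht _ hv
  have h1 := rep_re_ge_of_fixed ρ (t * (k * y * k⁻¹)) (W ⊓ W') hboth
  have h2 := Submodule.finrank_sup_add_finrank_inf_eq W W'
  have h3 := (W ⊔ W').finrank_le
  have h4 : (2 : ℝ) * m ≤ (finrank ℂ ↥(W ⊓ W') : ℝ) + finrank ℂ (Fin n → ℂ) := by
    exact_mod_cast (by omega : 2 * m ≤ finrank ℂ ↥(W ⊓ W') + finrank ℂ (Fin n → ℂ))
  rw [ρ.char_one, Complex.natCast_re]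
  linarith

/-- If `χ(z^(2^j)) ^ 2 = χ(1) χ(z^(2^(j+1)))` for all `j` and `z` has odd order, then `χ(z)` is
zero or of full norm. -/
theorem eq_zero_or_norm_eq {χ : G → ℂ} (hχ : Cfsg.IsIrrCharacter G χ) {z : G}
    (hodd : Odd (orderOf z))
    (hsq : ∀ j : ℕ, χ (z ^ 2 ^ j) * χ (z ^ 2 ^ j) = χ 1 * χ (z ^ 2 ^ (j + 1))) :
    χ z = 0 ∨ ‖χ z‖ = ‖χ 1‖ := by
  have hn : χ 1 ≠ 0 := irr_one_ne_zero hχ
  set f : ℕ → ℂ := fun j => χ (z ^ 2 ^ j) / χ 1 with hf
  have hrec : ∀ j, f j = f 0 ^ 2 ^ j := by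
    intro j
    induction j with
    | zero => simp
    | succ j ih =>
      rw [pow_succ, pow_mul, ← ih, hf]
      simp only
      rw [div_pow, pow_two, hsq j]
      field_simp
  set J := (orderOf z).totient with hJ
  have hper : z ^ 2 ^ J = z := by
    conv_rhs => rw [← pow_one z]
    exact pow_eq_pow_iff_modEq.2 (Nat.ModEq.pow_totient (Nat.coprime_two_left.2 hodd))
  have hJpos : 0 < J := Nat.totient_pos.2 (orderOf_pos z)
  have h0 : f J = f 0 := by simp [hf, hper]
  have hfix : ‖f 0‖ ^ 2 ^ J = ‖f 0‖ := by rw [← norm_pow, ← hrec, h0]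
  rcases eq_or_ne (f 0) 0 with h | h
  · left
    rw [hf] at h
    simp only [pow_zero, pow_one, div_eq_zero_iff] at h
    exact h.resolve_right hn
  · right
    have hpos : 0 < ‖f 0‖ := norm_pos_iff.2 h
    obtain ⟨i, hi⟩ : ∃ i, 2 ^ J = i + 2 :=
      ⟨2 ^ J - 2, by have := Nat.pow_le_pow_right two_pos hJpos; omega⟩
    rw [hi, pow_succ] at hfix
    have h1 : ‖f 0‖ ^ (i + 1) = 1 := (mul_eq_right₀ hpos.ne').1 hfix
    have h2 : ‖f 0‖ = 1 := (pow_eq_one_iff_of_nonneg hpos.le i.succ_ne_zero).1 h1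
    rw [hf] at h2
    simp only [pow_zero, pow_one, norm_div] at h2
    exact (div_eq_one_iff_eq (norm_ne_zero_iff.2 hn)).1 h2

/-- The subgroup generated normally by the commutators of `z`. -/
def commClosure (z : G) : Subgroup G :=
  Subgroup.normalClosure (Set.range fun g : G => g * z * g⁻¹ * z⁻¹)

theorem commClosure_normal (z : G) : (commClosure z).Normal := Subgroup.normalClosure_normal

theorem comm_mem_commClosure (z g : G) : g * z * g⁻¹ * z⁻¹ ∈ commClosure z :=
  Subgroup.subset_normalClosure ⟨g, rfl⟩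

/-- Where `z` acts as zero or as a scalar, the squares of the values at `z` sum to at most the
index of the normal subgroup generated by the commutators of `z`. -/
theorem sum_norm_sq_le_index (s : Finset (Cfsg.IrrCharacter G)) {z : G}
    (h : ∀ χ ∈ s, (χ : G → ℂ) z = 0 ∨ ‖(χ : G → ℂ) z‖ = ‖(χ : G → ℂ) 1‖) :
    ∑ χ ∈ s, ‖(χ : G → ℂ) z‖ ^ 2 ≤ ((commClosure z).index : ℝ) := by
  classical
  haveI := Fintype.ofFinite G
  haveI := Fintype.ofFinite (Cfsg.IrrCharacter G)
  haveI := commClosure_normal z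
  rw [← BlocksChars.Codegree.sum_degree_sq_over (commClosure z), Nat.cast_sum]
  have hdeg : ∀ χ : Cfsg.IrrCharacter G,
      ((Cfsg.charDegree (χ : G → ℂ) ^ 2 : ℕ) : ℝ) = ‖(χ : G → ℂ) 1‖ ^ 2 := fun χ => by
    rw [← BlocksChars.Degrees.charDegree_cast, Complex.norm_natCast, Nat.cast_pow]
  have hker : ∀ χ : Cfsg.IrrCharacter G, ‖(χ : G → ℂ) z‖ = ‖(χ : G → ℂ) 1‖ →
      ∀ x ∈ commClosure z, (χ : G → ℂ) x = (χ : G → ℂ) 1 := by
    intro χ hχ
    haveI := charKernel_normal (G := G) (irr_isCharacter χ)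
    suffices commClosure z ≤ charKernel (χ : G → ℂ) (irr_isCharacter χ) from fun x hx => this hx
    refine Subgroup.normalClosure_le_normal ?_
    rintro _ ⟨g, rfl⟩
    obtain ⟨n, ρ, -, hρ⟩ := χ.2
    show (χ : G → ℂ) (g * z * g⁻¹ * z⁻¹) = (χ : G → ℂ) 1
    rw [← hρ] at hχ ⊢
    rw [ρ.char_one, Complex.norm_natCast] at hχ
    obtain ⟨ω, hω⟩ := rep_apply_eq_smul_of_norm_eq ρ z hχ
    refine rep_char_eq_of_apply_eq_id ?_
    have hcomm : ρ g * ρ z = ρ z * ρ g := by
      rw [hω]; ext v; simp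
    rw [map_mul, map_mul, map_mul, hcomm, mul_assoc (ρ z), ← map_mul ρ g, mul_inv_cancel, map_one,
      mul_one, ← map_mul, mul_inv_cancel, map_one]
    rfl
  calc ∑ χ ∈ s, ‖(χ : G → ℂ) z‖ ^ 2
      = ∑ χ ∈ s.filter (fun χ : Cfsg.IrrCharacter G =>
          ∀ x ∈ commClosure z, (χ : G → ℂ) x = (χ : G → ℂ) 1), ‖(χ : G → ℂ) z‖ ^ 2 := by
        refine (Finset.sum_filter_of_ne fun χ hχ hne => ?_).symm
        refine hker χ ((h χ hχ).resolve_left fun h0 => hne ?_)
        simp [h0]
    _ ≤ ∑ χ ∈ Finset.univ.filter (fun χ : Cfsg.IrrCharacter G =>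
          ∀ x ∈ commClosure z, (χ : G → ℂ) x = (χ : G → ℂ) 1),
          ((Cfsg.charDegree (χ : G → ℂ) ^ 2 : ℕ) : ℝ) := by
        refine le_trans ?_ (Finset.sum_le_sum_of_subset_of_nonneg
          (Finset.filter_subset_filter _ (Finset.subset_univ s)) fun χ _ _ => Nat.cast_nonneg _)
        refine Finset.sum_le_sum fun χ _ => ?_
        rw [hdeg]
        exact pow_le_pow_left₀ (norm_nonneg _) (char_norm_le (irr_isCharacter χ) z) 2

end Cfsg.Agent.ExtremelyClosedOdd.Values
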