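import Mathlib
import Cfsg.Agent.Lib.Coprime.Commutator
import Cfsg.Agent.Lib.Coprime.Generation
import Cfsg.Agent.Lib.ExtremelyClosedOdd.Pair
import Cfsg.Agent.Lib.ExtremelyClosedOdd.Values

/-!
# Fixed points in the commutator of a coprime action

An abelian p-group `H`, `p` odd, acts on a p'-group `O` and no group `⟨H, H^x⟩ ∩ O` has a
nontrivial fixed point of `H`.  Then `[O, H]` has none.  For a cyclic action this follows from
`χ(h) ^ 2 = χ(1) χ(h ^ 2)`; otherwise the fixed point groups of the elements of `H` generate.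
-/

set_option autoImplicit false
set_option linter.style.haveILetI false
set_option linter.unusedSectionVars false

namespace Cfsg.Agent.ExtremelyClosedOdd.Action

open Cfsg.Agent.Characters Cfsg.Agent.ExtremelyClosedOdd.Pair
open scoped ComplexConjugate commutatorElement

universe u

variable {G : Type u} [Group G] [Finite G] {p : ℕ} [hpf : Fact p.Prime]

/-- The case of a cyclic action. -/
theorem cyclic_case (hp : p ≠ 2) {H O : Subgroup G} (hH : IsPGroup p H)
    (hab : IsMulCommutative H) (hO : ¬ p ∣ Nat.card O)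
    (hHO : H ≤ Subgroup.normalizer (O : Set G))
    (hcond : ∀ x ∈ O, (H ⊔ H.map (MulAut.conj x).toMonoidHom) ⊓ O ⊓
      Subgroup.centralizer (H : Set G) = ⊥)
    {h : G} (hh : h ∈ H)
    (hgen : ∀ a ∈ H, ∃ i : ℤ, ∃ b ∈ H, b ∈ Subgroup.centralizer (O : Set G) ∧ a = h ^ i * b) :
    ⁅O, H⁆ ⊓ Subgroup.centralizer (H : Set G) = ⊥ := by
  classical
  set Z := Subgroup.zpowers h with hZ
  have hZH : Z ≤ H := Subgroup.zpowers_le.2 hh
  have hZO : Z ≤ Subgroup.normalizer (O : Set G) := hZH.trans hHO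
  have hpow : ∀ i : ℕ, ∀ s : G, Commute (h ^ 2 ^ i) s → Commute h s := by
    intro i s hs
    obtain ⟨a, ha⟩ := IsPGroup.iff_orderOf.1 hH ⟨h, hh⟩
    rw [Subgroup.orderOf_mk] at ha
    obtain ⟨b, hb⟩ := exists_pow_eq_self_of_coprime (x := h) (n := 2 ^ i) (by
      rw [ha]
      exact Nat.Coprime.pow _ _ ((Nat.coprime_primes Nat.prime_two hpf.out).2 hp.symm))
    exact hb ▸ hs.pow_left b
  have hfixC : ∀ s ∈ O, Commute h s → s ∈ Subgroup.centralizer (H : Set G) := by
    intro s hs hcomm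
    refine Subgroup.mem_centralizer_iff.2 fun a ha => ?_
    obtain ⟨i, b, -, hb, rfl⟩ := hgen a ha
    exact ((hcomm.zpow_left i).mul_left (Subgroup.mem_centralizer_iff.1 hb s hs).symm).eq
  set X := O ⊔ Z with hX
  have hOX : O ≤ X := le_sup_left
  have hhX : h ∈ X := Subgroup.mem_sup_right (Subgroup.mem_zpowers h)
  haveI := Fintype.ofFinite X
  haveI := Fintype.ofFinite (Cfsg.IrrCharacter X)
  set z : X := ⟨h, hhX⟩ with hz
  have hzodd : Odd (orderOf z) := by
    rw [hz, Subgroup.orderOf_mk]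
    obtain ⟨a, ha⟩ := IsPGroup.iff_orderOf.1 hH ⟨h, hh⟩
    rw [Subgroup.orderOf_mk] at ha
    exact ha ▸ ((hpf.out.odd_of_ne_two hp).pow)
  -- the squaring relation
  have hval : ∀ (χ : Cfsg.IrrCharacter X) (j : ℕ) (x : X),
      (χ : X → ℂ) (z ^ 2 ^ j * (x * z ^ 2 ^ j * x⁻¹)) = (χ : X → ℂ) (z ^ 2 ^ (j + 1)) := by
    intro χ j x
    obtain ⟨o, ho, y, hy, hxy⟩ := (Coprime.mem_sup_of_le_normalizer hZO).1 x.2
    set w := h ^ 2 ^ j with hw
    have hwH : w ∈ H := pow_mem hh _
    have hxw : (x : G) * w * (x : G)⁻¹ = o * w * o⁻¹ := by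
      obtain ⟨i, rfl⟩ := Subgroup.mem_zpowers_iff.1 hy
      rw [← hxy, mul_inv_rev, hw, ← zpow_natCast]
      group
    set K := (H ⊔ H.map (MulAut.conj o).toMonoidHom) ⊓ O with hK
    have hKp : ¬ p ∣ Nat.card K := fun hd => hO (hd.trans (Subgroup.card_dvd_of_le inf_le_right))
    have hKinv : ∀ a ∈ H, ∀ q ∈ K, a * q * a⁻¹ ∈ K := fun a ha q hq =>
      ⟨mul_mem (mul_mem (Subgroup.mem_sup_left ha) hq.1) (Subgroup.mem_sup_left (inv_mem ha)),
        (Subgroup.mem_normalizer_iff.1 (hHO ha) q).1 hq.2⟩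
    set r := w⁻¹ * o * w * o⁻¹ with hr
    have hrK : r ∈ K := by
      refine ⟨?_, ?_⟩
      · rw [hr, show w⁻¹ * o * w * o⁻¹ = w⁻¹ * (o * w * o⁻¹) by group]
        exact mul_mem (Subgroup.mem_sup_left (inv_mem hwH)) (Subgroup.mem_sup_right ⟨w, hwH, rfl⟩)
      · rw [hr]
        refine O.mul_mem ?_ (O.inv_mem ho)
        have := (Subgroup.mem_normalizer_iff.1 (hHO (inv_mem hwH)) o).1 ho
        rwa [inv_inv] at this
    have hww : w * w = h ^ 2 ^ (j + 1) := by
      rw [hw, ← pow_add, pow_succ, mul_two]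
    obtain ⟨c, hc, hconj⟩ := exists_conj_eq hKp (u := w * w)
      (IsPGroup.iff_orderOf.1 hH ⟨w * w, mul_mem hwH hwH⟩ |>.imp fun a ha => by
        rwa [Subgroup.orderOf_mk] at ha)
      (hKinv _ (mul_mem hwH hwH)) (fun s hs hcomm => by
        have hmem : s ∈ (H ⊔ H.map (MulAut.conj o).toMonoidHom) ⊓ O ⊓
            Subgroup.centralizer (H : Set G) :=
          ⟨hs, hfixC s hs.2 (hpow (j + 1) s (hww ▸ hcomm))⟩
        rw [hcond o ho, Subgroup.mem_bot] at hmem
        exact hmem) hrK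
    have hcX : c ∈ X := hOX hc.2
    have he : z ^ 2 ^ j * (x * z ^ 2 ^ j * x⁻¹) = ⟨c, hcX⟩ * z ^ 2 ^ (j + 1) * ⟨c, hcX⟩⁻¹ := by
      apply Subtype.ext
      simp only [Subgroup.coe_mul, Subgroup.coe_inv, Subgroup.coe_pow, hz]
      rw [← hw, ← hww, hxw, hconj, hr]
      group
    rw [he, irr_isClassFunction χ]
  have hsq : ∀ (χ : Cfsg.IrrCharacter X) (j : ℕ),
      (χ : X → ℂ) (z ^ 2 ^ j) * (χ : X → ℂ) (z ^ 2 ^ j) =
        (χ : X → ℂ) 1 * (χ : X → ℂ) (z ^ 2 ^ (j + 1)) := by
    intro χ j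
    have h1 := sum_mul_conjugates χ.2 (z ^ 2 ^ j) (z ^ 2 ^ j)
    rw [Finset.sum_congr rfl fun x _ => hval χ j x, Finset.sum_const, Finset.card_univ,
      nsmul_eq_mul, ← Nat.card_eq_fintype_card, eq_div_iff (irr_one_ne_zero χ.2)] at h1
    refine mul_left_cancel₀ (natCard_ne_zero (G := X)) ?_
    rw [← mul_assoc, ← h1]
    ring
  -- the centraliser is small
  have hsum := Values.sum_norm_sq_le_index Finset.univ (z := z) fun χ _ =>
    Values.eq_zero_or_norm_eq χ.2 hzodd (hsq χ)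
  have horth := second_orthogonality (G := X) z z
  rw [if_pos (IsConj.refl z)] at horth
  have hCle : Nat.card (Subgroup.centralizer ({z} : Set X)) ≤ (Values.commClosure z).index := by
    have h2 : ∑ χ : Cfsg.IrrCharacter X, ‖(χ : X → ℂ) z‖ ^ 2 =
        (Nat.card (Subgroup.centralizer ({z} : Set X)) : ℝ) := by
      have h3 : ∑ χ : Cfsg.IrrCharacter X, ((‖(χ : X → ℂ) z‖ ^ 2 : ℝ) : ℂ) =
          ((Nat.card (Subgroup.centralizer ({z} : Set X)) : ℝ) : ℂ) := by
        rw [Complex.ofReal_natCast, ← horth]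
        exact Finset.sum_congr rfl fun χ _ => by rw [Complex.mul_conj', Complex.ofReal_pow]
      exact_mod_cast h3
    exact_mod_cast h2.symm.le.trans hsum
  set U := Values.commClosure z with hU
  haveI : U.Normal := Values.commClosure_normal z
  set W := ⁅O, H⁆ with hW
  set C := O ⊓ Subgroup.centralizer (H : Set G) with hC
  have hWU : W ≤ U.map X.subtype := by
    rw [hW, Subgroup.commutator_le]
    intro o ho a ha
    obtain ⟨i, b, -, hb, rfl⟩ := hgen a ha
    set o' : X := ⟨o, hOX ho⟩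
    refine ⟨o' * z ^ i * o'⁻¹ * (z ^ i)⁻¹, ?_, ?_⟩
    · have hu := Values.comm_mem_commClosure z o'
      rw [← hU] at hu
      refine (QuotientGroup.eq_one_iff _).1 ?_
      have h1 : (o' : X ⧸ U) * z * (o' : X ⧸ U)⁻¹ = z := by
        rw [← mul_inv_eq_one, ← QuotientGroup.mk_inv, ← QuotientGroup.mk_mul,
          ← QuotientGroup.mk_mul, ← QuotientGroup.mk_inv, ← QuotientGroup.mk_mul]
        exact (QuotientGroup.eq_one_iff _).2 hu
      simp only [QuotientGroup.mk_mul, QuotientGroup.mk_inv, QuotientGroup.mk_zpow]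
      rw [← conj_zpow, h1, mul_inv_cancel]
    · have hbo : b * o⁻¹ * b⁻¹ = o⁻¹ := by
        rw [← Subgroup.mem_centralizer_iff.1 hb o⁻¹ (inv_mem ho), mul_inv_cancel_right]
      simp only [map_mul, map_inv, map_zpow, Subgroup.coe_subtype, hz, commutatorElement_def, o']
      calc o * h ^ i * o⁻¹ * (h ^ i)⁻¹ = o * h ^ i * (b * o⁻¹ * b⁻¹) * (h ^ i)⁻¹ := by rw [hbo]
        _ = o * (h ^ i * b) * o⁻¹ * (h ^ i * b)⁻¹ := by group
  have hCZ : Z ≤ Subgroup.normalizer (C : Set G) :=
    hZH.trans (Coprime.le_normalizer_sup_inf_centralizer hHO)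
  have hcopHO := coprime_card hH hO
  have hcopZO : (Nat.card Z).Coprime (Nat.card O) := coprime_card (hH.to_le hZH) hO
  have hCcard : Nat.card C * Nat.card Z ≤ Nat.card (Subgroup.centralizer ({z} : Set X)) := by
    rw [← Coprime.card_sup_of_coprime hCZ
      (hcopZO.symm.coprime_dvd_left (Subgroup.card_dvd_of_le inf_le_left))]
    have hle : C ⊔ Z ≤ (Subgroup.centralizer ({z} : Set X)).map X.subtype := by
      refine sup_le (fun c hc => ?_) (Subgroup.zpowers_le.2 ?_)
      · refine ⟨⟨c, hOX hc.1⟩, Subgroup.mem_centralizer_singleton_iff.2 (Subtype.ext ?_), rfl⟩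
        exact ((Subgroup.mem_centralizer_iff.1 hc.2 h hh).symm :)
      · exact ⟨z, Subgroup.mem_centralizer_singleton_iff.2 rfl, rfl⟩
    exact (Subgroup.card_le_of_le hle).trans
      (Subgroup.card_map_of_injective X.subtype_injective).le
  have hXcard : Nat.card X = Nat.card O * Nat.card Z :=
    Coprime.card_sup_of_coprime hZO hcopZO.symm
  have hWcard : Nat.card W * Nat.card C ≤ Nat.card O := by
    have h1 : Nat.card W ≤ Nat.card U :=
      (Subgroup.card_le_of_le hWU).trans (Subgroup.card_map_of_injective X.subtype_injective).le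
    refine Nat.le_of_mul_le_mul_right ?_ (Nat.card_pos (α := Z))
    calc Nat.card W * Nat.card C * Nat.card Z = Nat.card W * (Nat.card C * Nat.card Z) :=
          mul_assoc _ _ _
      _ ≤ Nat.card U * U.index := Nat.mul_le_mul h1 (hCcard.trans hCle)
      _ = Nat.card O * Nat.card Z := by rw [U.card_mul_index, hXcard]
  -- hence the product map is injective
  have hWO : W ≤ O := Coprime.commutator_le_of_le_normalizer hHO
  let f : W × C → O := fun q => ⟨q.1 * q.2, mul_mem (hWO q.1.2) q.2.2.1⟩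
  have hfs : Function.Surjective f := by
    intro o
    obtain ⟨c, hc, w, hw, he⟩ := Coprime.exists_eq_centralizer_mul_commutator hHO hcopHO
      (Or.inl (Coprime.isSolvable_of_isMulCommutative H)) o.2
    refine ⟨(⟨c * w * c⁻¹, ?_⟩, ⟨c, hc⟩), Subtype.ext ?_⟩
    · exact (Subgroup.mem_normalizer_iff.1 (Subgroup.normalizer_commutator_ge_left O H hc.1) w).1 hw
    · show c * w * c⁻¹ * c = (o : G)
      rw [inv_mul_cancel_right, he]
  have hfi : Function.Injective f :=
    ((Nat.bijective_iff_surjective_and_card f).2 ⟨hfs, le_antisymm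
      (by rw [Nat.card_prod]; exact hWcard) (Nat.card_le_card_of_surjective f hfs)⟩).1
  rw [eq_bot_iff]
  rintro d ⟨hdW, hdH⟩
  have hdC : d ∈ C := ⟨hWO hdW, hdH⟩
  have := hfi (show f (⟨d, hdW⟩, 1) = f (1, ⟨d, hdC⟩) from Subtype.ext (by simp [f]))
  simpa using congrArg (fun q : W × C => (q.1 : G)) this

/-- The subgroup generated by the conjugates of `d` under `H`. -/
def orbitGen (H : Subgroup G) (d : G) : Subgroup G :=
  Subgroup.closure {x | ∃ h ∈ H, x = h * d * h⁻¹}

theorem mem_orbitGen (H : Subgroup G) (d : G) : d ∈ orbitGen H d :=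
  Subgroup.subset_closure ⟨1, one_mem _, by group⟩

theorem orbitGen_le {H K : Subgroup G} {d : G} (hK : H ≤ Subgroup.normalizer (K : Set G))
    (hd : d ∈ K) : orbitGen H d ≤ K := by
  rw [orbitGen, Subgroup.closure_le]
  rintro _ ⟨h, hh, rfl⟩
  exact (Subgroup.mem_normalizer_iff.1 (hK hh) d).1 hd

theorem le_normalizer_orbitGen (H : Subgroup G) (d : G) :
    H ≤ Subgroup.normalizer (orbitGen H d : Set G) := by
  intro a ha
  refine mem_normalizer_of_le fun x hx => ?_
  have hle : (orbitGen H d).map (MulAut.conj a).toMonoidHom ≤ orbitGen H d := by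
    rw [orbitGen, MonoidHom.map_closure, Subgroup.closure_le]
    rintro _ ⟨_, ⟨h, hh, rfl⟩, rfl⟩
    refine Subgroup.subset_closure ⟨a * h, mul_mem ha hh, ?_⟩
    show a * (h * d * h⁻¹) * a⁻¹ = a * h * d * (a * h)⁻¹
    group
  exact hle ⟨x, hx, rfl⟩

/-- `[O, H]` contains no nontrivial fixed point of `H`. -/
theorem commutator_inf_centralizer_eq_bot (hp : p ≠ 2) {H : Subgroup G} (hH : IsPGroup p H)
    (hab : IsMulCommutative H) : ∀ (n : ℕ) (O : Subgroup G), Nat.card O = n → ¬ p ∣ Nat.card O →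
      H ≤ Subgroup.normalizer (O : Set G) →
      (∀ x ∈ O, (H ⊔ H.map (MulAut.conj x).toMonoidHom) ⊓ O ⊓
        Subgroup.centralizer (H : Set G) = ⊥) →
      ⁅O, H⁆ ⊓ Subgroup.centralizer (H : Set G) = ⊥ := by
  intro n
  induction n using Nat.strong_induction_on with
  | _ n ih =>
  intro O hn hO hHO hcond
  by_cases hcyc : ∃ h ∈ H, ∀ a ∈ H, ∃ i : ℤ, ∃ b ∈ H,
      b ∈ Subgroup.centralizer (O : Set G) ∧ a = h ^ i * b
  · obtain ⟨h, hh, hgen⟩ := hcyc
    exact cyclic_case hp hH hab hO hHO hcond hh hgen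
  haveI := hab
  have hsolv : Group.IsSolvable H := Coprime.isSolvable_of_isMulCommutative H
  have hcopHO := coprime_card hH hO
  set C := O ⊓ Subgroup.centralizer (H : Set G) with hC
  set ι := {a : G // a ∈ H ∧ a ∉ Subgroup.centralizer (O : Set G)}
  let Ca : ι → Subgroup G := fun a => O ⊓ Subgroup.centralizer ({(a : G)} : Set G)
  let θ : ι → Subgroup G := fun a => ⁅Ca a, H⁆
  have hHCa : ∀ a, H ≤ Subgroup.normalizer (Ca a : Set G) := fun a h hh =>
    mem_normalizer_of_le fun x hx => ⟨(Subgroup.mem_normalizer_iff.1 (hHO hh) x).1 hx.1,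
      Subgroup.mem_centralizer_singleton_iff.2 (by
        have h1 : (a : G) * x = x * a := (Subgroup.mem_centralizer_singleton_iff.1 hx.2).symm
        have h2 : (a : G) * h = h * a := commute_of_mem hab a.2.1 hh
        have h3 : (a : G) * h⁻¹ = h⁻¹ * a := commute_of_mem hab a.2.1 (inv_mem hh)
        rw [mul_assoc (h * x), ← h3, mul_assoc h x, ← mul_assoc x, ← h1, mul_assoc (a : G) x,
          ← mul_assoc h, ← h2, mul_assoc, ← mul_assoc h x])⟩
  have hθfix : ∀ a, θ a ⊓ Subgroup.centralizer (H : Set G) = ⊥ := by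
    intro a
    have hle : Ca a ≤ O := inf_le_left
    have hlt : Nat.card (Ca a) < n := by
      refine hn ▸ lt_of_le_of_ne (Subgroup.card_le_of_le hle) fun he => a.2.2 ?_
      have heq : Ca a = O := Subgroup.eq_of_le_of_card_ge hle he.ge
      refine Subgroup.mem_centralizer_iff.2 fun o ho => ?_
      have ho' : o ∈ Ca a := heq.symm ▸ ho
      exact Subgroup.mem_centralizer_singleton_iff.1 ho'.2
    refine ih _ hlt _ rfl (fun hd => hO (hd.trans (Subgroup.card_dvd_of_le hle))) (hHCa a)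
      fun x hx => eq_bot_iff.2 ?_
    exact (hcond x (hle hx)).le.trans' (inf_le_inf_right _ (inf_le_inf_left _ hle))
  -- the fixed point groups generate
  have hgenO : O ≤ ⨆ a, Ca a := by
    set X := O ⊔ H with hX
    set B := (H ⊓ Subgroup.centralizer (O : Set G)).subgroupOf X with hB
    haveI : B.Normal := by
      refine ⟨fun b hb x => ?_⟩
      have hbC : (x : G) ∈ Subgroup.centralizer ({(b : G)} : Set G) := by
        refine (sup_le ?_ ?_ : X ≤ _) x.2
        · exact fun o ho =>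
            Subgroup.mem_centralizer_singleton_iff.2 (Subgroup.mem_centralizer_iff.1 hb.2 o ho)
        · exact fun h hh => Subgroup.mem_centralizer_singleton_iff.2 (commute_of_mem hab hh hb.1)
      have he : x * b * x⁻¹ = b := Subtype.ext (by
        simp only [Subgroup.coe_mul, Subgroup.coe_inv]
        rw [Subgroup.mem_centralizer_singleton_iff.1 hbC, mul_inv_cancel_right])
      rwa [he]
    set π := QuotientGroup.mk' B with hπ
    set A := (H.subgroupOf X).map π with hA
    set Kq := (O.subgroupOf X).map π with hKq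
    haveI : IsMulCommutative A := ⟨⟨fun a b => Subtype.ext (by
      obtain ⟨x, hx, hxa⟩ := a.2
      obtain ⟨y, hy, hyb⟩ := b.2
      show (a : X ⧸ B) * b = b * a
      rw [← hxa, ← hyb, ← map_mul, ← map_mul]
      exact congrArg π (Subtype.ext (commute_of_mem hab hx hy)))⟩⟩
    have hker : ∀ q : X, π q = 1 → (q : G) ∈ H ∧ (q : G) ∈ Subgroup.centralizer (O : Set G) :=
      fun q hq => (QuotientGroup.eq_one_iff q).1 hq
    have hnc : ¬ IsCyclic A := by
      intro hc
      obtain ⟨g, hg⟩ := hc.exists_generator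
      obtain ⟨x, hx, hxg⟩ := g.2
      refine hcyc ⟨x, hx, fun a ha => ?_⟩
      obtain ⟨i, hi⟩ := Subgroup.mem_zpowers_iff.1
        (hg ⟨π ⟨a, Subgroup.mem_sup_right ha⟩, ⟨_, ha, rfl⟩⟩)
      have hi' : π x ^ i = π ⟨a, Subgroup.mem_sup_right ha⟩ := by
        rw [hxg]; exact congrArg Subtype.val hi
      obtain ⟨hb1, hb2⟩ := hker ((x ^ i)⁻¹ * ⟨a, Subgroup.mem_sup_right ha⟩) (by
        rw [map_mul, map_inv, map_zpow, hi', inv_mul_cancel])
      exact ⟨i, _, hb1, hb2, by simp⟩
    have hAK : A ≤ Subgroup.normalizer (Kq : Set (X ⧸ B)) := by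
      rintro _ ⟨h, hh, rfl⟩
      refine mem_normalizer_of_le ?_
      rintro _ ⟨o, ho, rfl⟩
      refine ⟨h * o * h⁻¹, ?_, by rw [map_mul, map_mul, map_inv]⟩
      exact (Subgroup.mem_normalizer_iff.1 (hHO hh) _).1 ho
    have hcop : (Nat.card A).Coprime (Nat.card Kq) := by
      refine (hcopHO.coprime_dvd_left ?_).coprime_dvd_right ?_
      · exact ((H.subgroupOf X).card_map_dvd π).trans
          (Nat.card_congr (Subgroup.subgroupOfEquivOfLe le_sup_right).toEquiv).dvd
      · exact ((O.subgroupOf X).card_map_dvd π).trans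
          (Nat.card_congr (Subgroup.subgroupOfEquivOfLe le_sup_left).toEquiv).dvd
    have hfix := Coprime.fixedGen_eq hnc hAK hcop
    have hkerO : ∀ q : X, π q = 1 → (q : G) ∈ O → q = 1 := fun q hq hqO =>
      Subtype.ext (eq_one_of_mem_inf hH hO (hker q hq).1 hqO)
    have hle : Coprime.fixedGen A Kq ≤ ((⨆ a, Ca a).subgroupOf X).map π := by
      refine iSup₂_le ?_
      rintro abar ⟨⟨a, ha, rfl⟩, ha1⟩ _ ⟨⟨o, ho, rfl⟩, hocomm⟩
      refine ⟨o, ?_, rfl⟩
      have hnot : (a : G) ∉ Subgroup.centralizer (O : Set G) := fun hc =>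
        ha1 ((QuotientGroup.eq_one_iff a).2 ⟨ha, hc⟩)
      refine Subgroup.mem_iSup_of_mem (⟨(a : G), ha, hnot⟩ : ι) ⟨ho, ?_⟩
      have h1 : π (o * a * o⁻¹ * a⁻¹) = 1 := by
        rw [map_mul, map_mul, map_mul, map_inv, map_inv,
          Subgroup.mem_centralizer_singleton_iff.1 hocomm]
        group
      have h2 : ((o * a * o⁻¹ * a⁻¹ : X) : G) ∈ O := by
        simp only [Subgroup.coe_mul, Subgroup.coe_inv]
        rw [show (o : G) * a * (o : G)⁻¹ * (a : G)⁻¹ = o * (a * (o : G)⁻¹ * (a : G)⁻¹) by group]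
        exact mul_mem ho ((Subgroup.mem_normalizer_iff.1 (hHO ha) _).1 (inv_mem ho))
      have h3 := congrArg Subtype.val (hkerO _ h1 h2)
      simp only [Subgroup.coe_mul, Subgroup.coe_inv, OneMemClass.coe_one] at h3
      rw [mul_inv_eq_iff_eq_mul, one_mul, mul_inv_eq_iff_eq_mul] at h3
      exact Subgroup.mem_centralizer_singleton_iff.2 h3
    intro o ho
    have hmem : π ⟨o, Subgroup.mem_sup_left ho⟩ ∈ Kq := ⟨_, ho, rfl⟩
    rw [← hfix] at hmem
    obtain ⟨s, hs, hse⟩ := hle hmem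
    have hsO : (s : G) ∈ O := (iSup_le fun a => inf_le_left : (⨆ a, Ca a) ≤ O) hs
    have heq := hkerO (s⁻¹ * ⟨o, Subgroup.mem_sup_left ho⟩)
      (by rw [map_mul, map_inv, hse, inv_mul_cancel]) (mul_mem (inv_mem hsO) ho)
    rw [inv_mul_eq_one] at heq
    rw [heq] at hs
    exact hs
  set W' := ⨆ a, θ a with hW'
  have hθO : ∀ a, θ a ≤ Ca a := fun a => Coprime.commutator_le_of_le_normalizer (hHCa a)
  have hW'O : W' ≤ O := iSup_le fun a => (hθO a).trans inf_le_left
  have hnormW : ∀ g : G, (∀ a, g ∈ Subgroup.normalizer (θ a : Set G)) →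
      g ∈ Subgroup.normalizer (W' : Set G) := fun g hg => mem_normalizer_of_le fun x hx => by
    have hle : W'.map (MulAut.conj g).toMonoidHom ≤ W' := by
      rw [hW', Subgroup.map_iSup]
      refine iSup_le fun a => le_iSup_of_le a ?_
      rintro _ ⟨y, hy, rfl⟩
      exact (Subgroup.mem_normalizer_iff.1 (hg a) y).1 hy
    exact hle ⟨x, hx, rfl⟩
  have hHW' : H ≤ Subgroup.normalizer (W' : Set G) := fun h hh =>
    hnormW h fun a => Subgroup.normalizer_commutator_ge_right (Ca a) H hh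
  have hCCa : ∀ a, C ≤ Ca a := fun a c hc => ⟨hc.1, Subgroup.mem_centralizer_singleton_iff.2
    (Subgroup.mem_centralizer_iff.1 hc.2 a a.2.1).symm⟩
  have hCW' : C ≤ Subgroup.normalizer (W' : Set G) := fun c hc =>
    hnormW c fun a => Subgroup.normalizer_commutator_ge_left (Ca a) H (hCCa a hc)
  have hOW : O ≤ W' ⊔ C := hgenO.trans (iSup_le fun a => by
    refine (Coprime.commutator_sup_inf_centralizer (hHCa a)
      (hcopHO.coprime_dvd_right (Subgroup.card_dvd_of_le inf_le_left))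
      (Or.inl hsolv)).ge.trans ?_
    exact sup_le_sup (le_iSup θ a) (inf_le_inf_right _ inf_le_left))
  have hWle : ⁅O, H⁆ ≤ W' := by
    rw [Subgroup.commutator_le]
    intro o ho a ha
    obtain ⟨w, hw, c, hc, rfl⟩ := (Coprime.mem_sup_of_le_normalizer hCW').1 (hOW ho)
    rw [commutatorElement_def, show w * c * a * (w * c)⁻¹ * a⁻¹ =
      w * (c * a * c⁻¹ * w⁻¹ * a⁻¹) by group,
      ← Subgroup.mem_centralizer_iff.1 hc.2 a ha, mul_inv_cancel_right]
    exact mul_mem hw ((Subgroup.mem_normalizer_iff.1 (hHW' ha) _).1 (inv_mem hw))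
  -- `W'` consists of elements whose orbit meets the fixed points trivially
  let D : G → Prop := fun d =>
    d ∈ O ∧ orbitGen H d ⊓ Subgroup.centralizer (H : Set G) = ⊥
  have hstep : ∀ a, ∀ u ∈ θ a, ∀ d, D d → D (u * d) := by
    intro a u hu d hd
    obtain ⟨hdO, hdY⟩ := hd
    set z := u * d with hz
    have hzO : z ∈ O := mul_mem (hθO a hu).1 hdO
    refine ⟨hzO, ?_⟩
    set T := H ⊔ H.map (MulAut.conj z⁻¹).toMonoidHom with hT
    set K := T ⊓ O with hK
    have hHK : H ≤ Subgroup.normalizer (K : Set G) := fun h hh => mem_normalizer_of_le fun q hq =>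
      ⟨mul_mem (mul_mem (Subgroup.mem_sup_left hh) hq.1) (Subgroup.mem_sup_left (inv_mem hh)),
        (Subgroup.mem_normalizer_iff.1 (hHO hh) q).1 hq.2⟩
    have hTz : ∀ h ∈ H, z⁻¹ * h * z ∈ T := fun h hh =>
      Subgroup.mem_sup_right ⟨h, hh, show z⁻¹ * h * z⁻¹⁻¹ = _ by rw [inv_inv]⟩
    suffices hzK : z ∈ K from eq_bot_iff.2 ((inf_le_inf_right _ (orbitGen_le hHK hzK)).trans
      (hcond z⁻¹ (inv_mem hzO)).le)
    set Y := orbitGen H d with hY
    have hYO : Y ≤ O := orbitGen_le hHO hdO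
    have hHY := le_normalizer_orbitGen H d
    set A := Subgroup.zpowers (a : G) with hA
    have hAH : A ≤ H := Subgroup.zpowers_le.2 a.2.1
    have hHV : H ≤ Subgroup.normalizer ((Y ⊓ K : Subgroup G) : Set G) := fun h hh =>
      Subgroup.inf_normalizer_le_normalizer_inf ⟨hHY hh, hHK hh⟩
    obtain ⟨m, hm, hdm⟩ := Coprime.exists_fixed_in_coset (A := A) (N := Y ⊓ K) (k := d)
      (hAH.trans hHV)
      ((hcopHO.coprime_dvd_left (Subgroup.card_dvd_of_le hAH)).coprime_dvd_right
        (Subgroup.card_dvd_of_le (inf_le_left.trans hYO)))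
      (Or.inl (Coprime.isSolvable_of_le hAH hsolv))
      (fun a' ha' => by
        have hcu : Commute a' u := by
          obtain ⟨i, rfl⟩ := Subgroup.mem_zpowers_iff.1 ha'
          exact Commute.zpow_left (Subgroup.mem_centralizer_singleton_iff.1 (hθO a hu).2).symm i
        have hin : d⁻¹ * (a' * d * a'⁻¹) ∈ Y :=
          mul_mem (inv_mem (mem_orbitGen H d))
            ((Subgroup.mem_normalizer_iff.1 (hHY (hAH ha')) d).1 (mem_orbitGen H d))
        refine ⟨hin, ?_, hYO hin⟩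
        rw [show d⁻¹ * (a' * d * a'⁻¹) = d⁻¹ * a' * d * a'⁻¹ by group]
        refine mul_mem ?_ (Subgroup.mem_sup_left (inv_mem (hAH ha')))
        have := hTz a' (hAH ha')
        rwa [hz, mul_inv_rev, mul_assoc d⁻¹ u⁻¹ a', ← hcu.inv_right.eq,
          show d⁻¹ * (a' * u⁻¹) * (u * d) = d⁻¹ * a' * d by group] at this)
    set e := d * m with he
    have heθ : e ∈ θ a := by
      set Y' := Y ⊓ Subgroup.centralizer ({(a : G)} : Set G) with hY'
      have heY' : e ∈ Y' := by
        refine ⟨mul_mem (mem_orbitGen H d) hm.1, Subgroup.mem_centralizer_singleton_iff.2 ?_⟩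
        exact (Subgroup.mem_centralizer_iff.1 hdm a (Subgroup.mem_zpowers _)).symm
      have hY'Ca : Y' ≤ Ca a := inf_le_inf_right _ hYO
      have hHY' : H ≤ Subgroup.normalizer (Y' : Set G) := fun h hh =>
        mem_normalizer_of_le fun x hx => ⟨(Subgroup.mem_normalizer_iff.1 (hHY hh) x).1 hx.1,
          ((Subgroup.mem_normalizer_iff.1 (hHCa a hh) x).1 (hY'Ca hx)).2⟩
      have h1 := Coprime.commutator_sup_inf_centralizer hHY'
        (hcopHO.coprime_dvd_right (Subgroup.card_dvd_of_le (inf_le_left.trans hYO)))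
        (Or.inl hsolv)
      have h2 : Y' ⊓ Subgroup.centralizer (H : Set G) = ⊥ :=
        eq_bot_iff.2 ((inf_le_inf_right _ inf_le_left).trans hdY.le)
      rw [h2, sup_bot_eq] at h1
      exact Subgroup.commutator_mono hY'Ca le_rfl (h1.symm ▸ heY')
    set v := u * e with hv
    have hvθ : v ∈ θ a := mul_mem hu heθ
    have hzv : z = v * m⁻¹ := by rw [hz, hv, he]; group
    set Yv := orbitGen H v with hYv
    have hYvθ : Yv ≤ θ a := orbitGen_le (Subgroup.normalizer_commutator_ge_right _ _) hvθ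
    have hYvO : Yv ≤ O := hYvθ.trans ((hθO a).trans inf_le_left)
    obtain ⟨m', hm', hvm⟩ := Coprime.exists_fixed_in_coset (A := H) (N := Yv ⊓ K) (k := v)
      (fun h hh =>
        Subgroup.inf_normalizer_le_normalizer_inf ⟨le_normalizer_orbitGen H v hh, hHK hh⟩)
      (hcopHO.coprime_dvd_right (Subgroup.card_dvd_of_le (inf_le_left.trans hYvO)))
      (Or.inl hsolv)
      (fun h hh => by
        have hin : v⁻¹ * (h * v * h⁻¹) ∈ Yv := mul_mem (inv_mem (mem_orbitGen H v))
          ((Subgroup.mem_normalizer_iff.1 (le_normalizer_orbitGen H v hh) v).1 (mem_orbitGen H v))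
        refine ⟨hin, ?_, hYvO hin⟩
        have h1 : v⁻¹ * h * v = m⁻¹ * (z⁻¹ * h * z) * m := by rw [hzv]; group
        rw [show v⁻¹ * (h * v * h⁻¹) = v⁻¹ * h * v * h⁻¹ by group, h1]
        exact T.mul_mem (T.mul_mem (T.mul_mem (T.inv_mem hm.2.1) (hTz h hh)) hm.2.1)
          (Subgroup.mem_sup_left (inv_mem hh)))
    have hone : v * m' = 1 := by
      have : v * m' ∈ θ a ⊓ Subgroup.centralizer (H : Set G) :=
        ⟨hYvθ (mul_mem (mem_orbitGen H v) hm'.1), hvm⟩
      rwa [hθfix a, Subgroup.mem_bot] at this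
    rw [hzv, show v = m'⁻¹ from eq_inv_of_mul_eq_one_left hone]
    exact mul_mem (inv_mem hm'.2) (inv_mem hm.2)
  have hD : ∀ w ∈ W', D w := by
    intro w hw
    rw [hW', Subgroup.iSup_eq_closure] at hw
    induction hw using Subgroup.closure_induction_left with
    | one =>
      refine ⟨one_mem _, eq_bot_iff.2 (inf_le_left.trans ?_)⟩
      exact orbitGen_le (K := ⊥) (fun h _ => mem_normalizer_of_le fun x hx => by
        simp [Subgroup.mem_bot.1 hx]) (one_mem _)
    | mul_left x hx y _ hy =>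
      obtain ⟨a, ha⟩ := Set.mem_iUnion.1 hx
      exact hstep a x ha y hy
    | inv_mul_cancel x hx y _ hy =>
      obtain ⟨a, ha⟩ := Set.mem_iUnion.1 hx
      exact hstep a x⁻¹ (inv_mem ha) y hy
  rw [eq_bot_iff]
  rintro d ⟨hd, hdH⟩
  exact (hD d (hWle hd)).2.le ⟨mem_orbitGen H d, hdH⟩

end Cfsg.Agent.ExtremelyClosedOdd.Action
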