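import Mathlib
import Cfsg.Agent.Lib.Blocks.SectionNorm
import Cfsg.Agent.Lib.ZStar.Principal
import Cfsg.Agent.Lib.Cores.Basic
import Cfsg.Agent.BlockCharsA.DefectZeroVanish
import Cfsg.Agent.Lib.ExtremelyClosedOdd.Pair
import Cfsg.Agent.Lib.ExtremelyClosedOdd.Values

/-!
# Principal block sums over twisted conjugates of an abelian p-subgroup

`H` is an abelian p-subgroup, `p` odd, each conjugate of which is `k H k⁻¹` with `k` in a
p'-subgroup `K` normalised by `H` and `K ∩ C(u) ≤ O_{p'}(C(u))` for `1 ≠ u ∈ H`.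

* An element of `H` fixed by all twists acts on each principal block character as zero or as a
  scalar, which bounds the order of a Sylow subgroup centralising it.
* If no element of `H` is alone in its class within `H` and `|H| ≥ 5`, the sums `S χ` over the
  nontrivial elements of `H` satisfy `|H| S χ ≤ (4 (|H| - 1) - |H|) χ(1)` off the principal
  character, against block orthogonality.
-/

set_option autoImplicit false
set_option linter.style.haveILetI false
set_option linter.unusedSectionVars false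

namespace Cfsg.Agent.ExtremelyClosedOdd.BlockSum

open Cfsg.Agent.Characters Cfsg.Agent.Blocks Cfsg.Agent.ExtremelyClosedOdd.Pair
open scoped ComplexConjugate

universe u

variable {G : Type u} [Group G] [Finite G] {p : ℕ} [hpf : Fact p.Prime] {M : Ideal Cfsg.AlgInt}

/-- The data of a twist needed for the characters of the principal block. -/
def IsCoreTwist (p : ℕ) (H : Subgroup G) (k : G) (K : Subgroup G) : Prop :=
  ¬ p ∣ Nat.card K ∧ (∀ h ∈ H, ∀ x ∈ K, h * x * h⁻¹ ∈ K) ∧ k ∈ K ∧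
    ∀ u ∈ H, u ≠ 1 → ∀ s ∈ K, ∀ hs : s ∈ Subgroup.centralizer ({u} : Set G),
      (⟨s, hs⟩ : Subgroup.centralizer ({u} : Set G)) ∈
        Cfsg.pPrimeCore p (Subgroup.centralizer ({u} : Set G))

theorem exists_orderOf_eq {H : Subgroup G} (hH : IsPGroup p H) {x : G} (hx : x ∈ H) :
    ∃ a : ℕ, orderOf x = p ^ a := by
  obtain ⟨a, ha⟩ := IsPGroup.iff_orderOf.1 hH ⟨x, hx⟩
  exact ⟨a, by rwa [Subgroup.orderOf_mk] at ha⟩

theorem dvd_orderOf {H : Subgroup G} (hH : IsPGroup p H) {x : G} (hx : x ∈ H) (hx1 : x ≠ 1) :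
    p ∣ orderOf x := by
  obtain ⟨a, ha⟩ := exists_orderOf_eq hH hx
  exact ha ▸ dvd_pow_self p fun h0 => hx1 (orderOf_eq_one_iff.1 (by rw [ha, h0, pow_zero]))

/-- Characters of the principal block on a twisted product of two elements of `H`. -/
theorem value_twist (hM : Cfsg.IsPModular p M) {χ : Cfsg.IrrCharacter G}
    (hχ : χ ∈ Cfsg.principalBlock M G) {H K : Subgroup G} (hH : IsPGroup p H)
    {t y k : G} (hKk : IsCoreTwist p H k K) (ht : t ∈ H) (hy : y ∈ H) (hne : t * y ≠ 1) :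
    (χ : G → ℂ) (t * (k * y * k⁻¹)) = (χ : G → ℂ) (t * y) := by
  obtain ⟨hK, hinv, hk, hcore⟩ := hKk
  have hu : t * y ∈ H := mul_mem ht hy
  set r := y⁻¹ * k * y * k⁻¹ with hr
  have hrK : r ∈ K := by
    refine mul_mem ?_ (inv_mem hk)
    have := hinv _ (inv_mem hy) k hk
    rwa [inv_inv] at this
  obtain ⟨c, -, s, hs, hcomm, he⟩ := exists_conj_mul hK (exists_orderOf_eq hH hu)
    (hinv _ hu) hrK
  rw [show t * (k * y * k⁻¹) = t * y * r by rw [hr]; group,
    ← irr_isClassFunction χ (t * y * r) c, he]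
  have hsC : s ∈ Subgroup.centralizer ({t * y} : Set G) :=
    Subgroup.mem_centralizer_singleton_iff.2 hcomm.eq.symm
  exact ZStar.Principal.value_mul_of_mem hM (exists_orderOf_eq hH hu) hχ
    (Cores.pPrimeCore_not_dvd p) (hcore _ hu hne s hs hsC)

open scoped Classical in
/-- The sum over the principal block of the squares at a p-element centralised by `E`. -/
theorem card_le_sum_sq [Fintype (Cfsg.IrrCharacter G)] (hM : Cfsg.IsPModular p M) (E : Subgroup G)
    (hE : IsPGroup p E) {t : G} (ht : ∃ a : ℕ, orderOf t = p ^ a)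
    (hcomm : ∀ e ∈ E, Commute t e) :
    (Nat.card E : ℝ) ≤ ∑ χ ∈ Finset.univ.filter (fun χ : Cfsg.IrrCharacter G =>
      χ ∈ Cfsg.principalBlock M G), ‖(χ : G → ℂ) t‖ ^ 2 := by
  have hconv : ∀ {α : Type u} [Fintype α] (s : Set α) (f : α → ℝ),
      ∑ᶠ i ∈ s, f i = ∑ i ∈ Finset.univ.filter (fun i => i ∈ s), f i := fun s f =>
    ZStar.Principal.finsum_mem_eq_sum_filter s f
  set C := Subgroup.centralizer ({t} : Set G) with hC
  haveI := Fintype.ofFinite (Cfsg.IrrCharacter C)
  have h := Blocks.norm_section_eq hM (z := t) ht (y := (1 : C))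
    (by simp [hpf.out.ne_one])
  simp only [OneMemClass.coe_one, mul_one] at h
  rw [← hconv, h, hconv]
  have hEC : E ≤ C := fun e he => Subgroup.mem_centralizer_singleton_iff.2 (hcomm e he).eq.symm
  set E' := E.subgroupOf C with hE'
  haveI := Fintype.ofFinite E'
  have hcard : Nat.card E' = Nat.card E := Nat.card_congr (Subgroup.subgroupOfEquivOfLe hEC).toEquiv
  have hE'p : IsPGroup p E' := hE.of_equiv (Subgroup.subgroupOfEquivOfLe hEC).symm
  set B := Finset.univ.filter fun χ : Cfsg.IrrCharacter C => χ ∈ Cfsg.principalBlock M C with hB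
  choose m hm using fun χ : Cfsg.IrrCharacter C =>
    ExtremelyClosed.Values.exists_nat_sum (irr_isCharacter χ) E'
  choose d hd using fun χ : Cfsg.IrrCharacter C => char_one_nat (irr_isCharacter χ)
  have h1 : ∑ χ ∈ B, (χ : C → ℂ) 1 * conj (∑ e : E', (χ : C → ℂ) e) =
      ∑ χ ∈ B, (χ : C → ℂ) 1 * conj ((χ : C → ℂ) 1) := by
    simp_rw [map_sum, Finset.mul_sum]
    rw [Finset.sum_comm, Finset.sum_eq_single (1 : E') ?_ (by simp)]
    · simp
    · intro e _ he
      have := sum_block_reg_sing hM (intEl_blockIdem hM (isPBlock_principal M C))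
        (x := (1 : C)) (y := (e : C)) (by simp [hpf.out.ne_one]) ?_
      · rw [ZStar.Principal.finsum_mem_eq_sum_filter] at this
        exact this
      · exact dvd_orderOf hE'p e.2 fun h0 => he (Subtype.ext h0)
  simp only [hm, hd, map_mul, map_natCast] at h1
  have h2 : ∑ χ ∈ B, (d χ : ℝ) * ((Nat.card E' : ℝ) * m χ) = ∑ χ ∈ B, (d χ : ℝ) * d χ := by
    exact_mod_cast h1
  have htriv : trivIrr C ∈ B := Finset.mem_filter.2 ⟨Finset.mem_univ _, trivIrr_mem_principal hM⟩
  have hd1 : d (trivIrr C) = 1 := by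
    have := hd (trivIrr C)
    simp only [trivIrr_coe] at this
    exact_mod_cast this.symm
  have hm1 : m (trivIrr C) = 1 := by
    have := hm (trivIrr C)
    simp only [trivIrr_coe, Finset.sum_const, Finset.card_univ, nsmul_eq_mul, mul_one,
      ← Nat.card_eq_fintype_card] at this
    have hne : (Nat.card E' : ℂ) ≠ 0 := Nat.cast_ne_zero.2 Nat.card_pos.ne'
    exact_mod_cast (mul_left_cancel₀ hne (by rw [mul_one]; exact this.symm) :
      (m (trivIrr C) : ℂ) = 1)
  calc (Nat.card E : ℝ) = (d (trivIrr C) : ℝ) * ((Nat.card E' : ℝ) * m (trivIrr C)) := by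
        rw [hd1, hm1, hcard]; simp
    _ ≤ ∑ χ ∈ B, (d χ : ℝ) * ((Nat.card E' : ℝ) * m χ) :=
        Finset.single_le_sum (f := fun χ => (d χ : ℝ) * ((Nat.card E' : ℝ) * m χ))
          (fun χ _ => by positivity) htriv
    _ = ∑ χ ∈ B, (d χ : ℝ) * d χ := h2
    _ = ∑ χ ∈ B, ‖(χ : C → ℂ) 1‖ ^ 2 := Finset.sum_congr rfl fun χ _ => by
        rw [hd, Complex.norm_natCast, pow_two]

/-- No element of `H` outside the centre is fixed by all twists. -/
theorem false_of_fixed (hp : p ≠ 2) (hO : Cfsg.pPrimeCore p G = ⊥) {H : Subgroup G}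
    (hH : IsPGroup p H) {z : G} (hz : z ∈ H) (hcen : z ∉ Subgroup.center G) (P : Sylow p G)
    (hPz : ∀ e ∈ (P : Subgroup G), Commute z e)
    (hgen : Values.commClosure z ⊔ (P : Subgroup G) = ⊤)
    (hpair : ∀ g : G, ∃ k K, IsCoreTwist p H k K ∧ g * z * g⁻¹ = k * z * k⁻¹) : False := by
  classical
  haveI := Fintype.ofFinite G
  haveI := Fintype.ofFinite (Cfsg.IrrCharacter G)
  obtain ⟨M, hM⟩ := BlockCharsA.DefectZeroVanish.exists_modular hpf.out
  obtain ⟨a, ha⟩ := exists_orderOf_eq hH hz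
  have hodd : Odd (orderOf z) := ha ▸ (hpf.out.odd_of_ne_two hp).pow
  have hz1 : z ≠ 1 := fun h => hcen (h ▸ one_mem _)
  have hne : ∀ i : ℕ, z ^ 2 ^ i ≠ 1 := by
    intro i h
    obtain ⟨j, -, hj⟩ := (Nat.dvd_prime_pow Nat.prime_two).1 (orderOf_dvd_of_pow_eq_one h)
    cases j with
    | zero => exact hz1 (orderOf_eq_one_iff.1 (by rw [hj, pow_zero]))
    | succ j =>
      rw [hj] at hodd
      exact absurd hodd (Nat.not_odd_iff_even.2 (Nat.even_pow.2 ⟨even_two, j.succ_ne_zero⟩))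
  set B := Finset.univ.filter fun χ : Cfsg.IrrCharacter G => χ ∈ Cfsg.principalBlock M G with hB
  have hsq : ∀ χ ∈ B, ∀ j : ℕ, (χ : G → ℂ) (z ^ 2 ^ j) * (χ : G → ℂ) (z ^ 2 ^ j) =
      (χ : G → ℂ) 1 * (χ : G → ℂ) (z ^ 2 ^ (j + 1)) := by
    intro χ hχ j
    have hw : z ^ 2 ^ j * z ^ 2 ^ j = z ^ 2 ^ (j + 1) := by rw [← pow_add, pow_succ, mul_two]
    have hval : ∀ x : G, (χ : G → ℂ) (z ^ 2 ^ j * (x * z ^ 2 ^ j * x⁻¹)) =
        (χ : G → ℂ) (z ^ 2 ^ (j + 1)) := fun x => by
      obtain ⟨k, K, hKk, he⟩ := hpair x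
      rw [← conj_pow, he, conj_pow, ← hw]
      exact value_twist hM (Finset.mem_filter.1 hχ).2 hH hKk (pow_mem hz _) (pow_mem hz _)
        (hw ▸ hne (j + 1))
    have h1 := sum_mul_conjugates χ.2 (z ^ 2 ^ j) (z ^ 2 ^ j)
    rw [Finset.sum_congr rfl fun x _ => hval x, Finset.sum_const, Finset.card_univ,
      nsmul_eq_mul, ← Nat.card_eq_fintype_card, eq_div_iff (irr_one_ne_zero χ.2)] at h1
    refine mul_left_cancel₀ (natCard_ne_zero (G := G)) ?_
    rw [← mul_assoc, ← h1]
    ring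
  have hle := (card_le_sum_sq hM (P : Subgroup G) P.2 ⟨a, ha⟩ hPz).trans
    (Values.sum_norm_sq_le_index B fun χ hχ => Values.eq_zero_or_norm_eq χ.2 hodd (hsq χ hχ))
  set U := Values.commClosure z with hU
  haveI : U.Normal := Values.commClosure_normal z
  have hcard := Cores.card_sup_mul_card_inf (P : Subgroup G) U
  rw [sup_comm, hgen, Subgroup.card_top] at hcard
  have hUne : U ≠ ⊥ := fun h => hcen (Subgroup.mem_center_iff.2 fun g => by
    have := Values.comm_mem_commClosure z g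
    rwa [← hU, h, Subgroup.mem_bot, mul_inv_eq_one, mul_inv_eq_iff_eq_mul] at this)
  have hPU : (P : Subgroup G) ⊓ U ≠ ⊥ := by
    intro h
    rw [h, Subgroup.card_bot, mul_one, ← (P : Subgroup G).card_mul_index] at hcard
    have hUidx := mul_left_cancel₀ Nat.card_pos.ne' hcard
    refine hUne (eq_bot_iff.2 (hO ▸ Cores.le_pPrimeCore ?_))
    rw [← hUidx]
    exact (hpf.out.coprime_iff_not_dvd.2 P.not_dvd_index).symm
  have hlt : U.index < Nat.card (P : Subgroup G) := by
    rw [← U.card_mul_index, mul_comm (Nat.card (P : Subgroup G)), mul_assoc] at hcard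
    have := mul_left_cancel₀ Nat.card_pos.ne' hcard
    rw [← this]
    exact lt_mul_of_one_lt_right (Nat.pos_of_ne_zero Subgroup.index_ne_zero_of_finite)
      (Subgroup.one_lt_card_iff_ne_bot _ |>.2 hPU)
  exact absurd hle (not_le.2 (by exact_mod_cast hlt))

/-- `H` has order less than five if none of its elements is alone in its class within `H`. -/
theorem false_of_moving {H : Subgroup G} (hH : IsPGroup p H)
    (hab : IsMulCommutative H) (hq : 5 ≤ Nat.card H)
    (hnc : Subgroup.normalClosure (H : Set G) = ⊤)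
    (hmove : ∀ z ∈ H, z ≠ 1 → ∃ g : G, g * z * g⁻¹ ∈ H ∧ g * z * g⁻¹ ≠ z)
    (hpair : ∀ g : G, ∃ k K, IsCoreTwist p H k K ∧
      ∀ z : G, z ∈ H ↔ k⁻¹ * (g * z * g⁻¹) * k ∈ H) : False := by
  classical
  haveI := Fintype.ofFinite G
  haveI := Fintype.ofFinite (Cfsg.IrrCharacter G)
  haveI := Fintype.ofFinite H
  obtain ⟨M, hM⟩ := BlockCharsA.DefectZeroVanish.exists_modular hpf.out
  choose k K hKk hbij using hpair
  set T := Finset.univ.filter (fun e : G => e ∈ H ∧ e ≠ 1) with hT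
  have hmT : ∀ {e : G}, e ∈ T ↔ e ∈ H ∧ e ≠ 1 := by simp [hT]
  have hTH : ∀ {e : G}, e ∈ T → e ∈ H := fun h => (hmT.1 h).1
  have hTerase : T = (Finset.univ.filter (fun e : G => e ∈ H)).erase 1 := by
    ext e; simp [hT, and_comm]
  have hcardT : T.card + 1 = Nat.card H := by
    rw [hTerase, Finset.card_erase_add_one (by simp [one_mem]), Nat.card_eq_fintype_card]
    exact (Fintype.card_subtype _).symm
  choose n hn0 hn using fun χ : Cfsg.IrrCharacter G => irr_one_pos χ.2
  choose d hd using fun χ : Cfsg.IrrCharacter G =>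
    ExtremelyClosed.Values.exists_nat_sum (irr_isCharacter χ) H
  set S : Cfsg.IrrCharacter G → ℝ := fun χ => (Nat.card H : ℝ) * d χ - n χ with hS
  have hSC : ∀ χ : Cfsg.IrrCharacter G, ∑ t ∈ T, (χ : G → ℂ) t = (S χ : ℂ) := fun χ => by
    rw [hTerase, Finset.sum_erase_eq_sub (by simp [one_mem]), hn,
      Finset.sum_subtype (Finset.univ.filter fun e : G => e ∈ H) (p := fun e => e ∈ H)
        (by simp) fun e => (χ : G → ℂ) e]
    rw [show (∑ a : H, (χ : G → ℂ) a) = (Nat.card H : ℂ) * d χ from hd χ, hS]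
    push_cast
    rfl
  set R : G → Cfsg.IrrCharacter G → ℂ :=
    fun g χ => ∑ t ∈ T, (χ : G → ℂ) (t * (k g * t⁻¹ * (k g)⁻¹)) with hR
  set B := Finset.univ.filter fun χ : Cfsg.IrrCharacter G => χ ∈ Cfsg.principalBlock M G with hB
  -- the basic identity
  have hid : ∀ χ ∈ B, (Nat.card G : ℂ) * ((S χ : ℂ) * (S χ : ℂ)) / (n χ : ℂ) =
      (Nat.card G : ℂ) * (((T.card : ℂ) - 1) * (S χ : ℂ)) + ∑ g : G, R g χ := by
    intro χ hχ
    have h1 : ∀ g : G, ∀ t ∈ T, ∑ z ∈ T, (χ : G → ℂ) (t * (g * z * g⁻¹)) =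
        ((S χ : ℂ) - (χ : G → ℂ) t) + (χ : G → ℂ) (t * (k g * t⁻¹ * (k g)⁻¹)) := by
      intro g t ht
      have hti : t⁻¹ ∈ T := hmT.2 ⟨inv_mem (hTH ht), fun h => (hmT.1 ht).2 (inv_eq_one.1 h)⟩
      rw [← hSC χ, Finset.sum_bij' (i := fun z _ => (k g)⁻¹ * (g * z * g⁻¹) * k g)
        (j := fun y _ => g⁻¹ * (k g * y * (k g)⁻¹) * g)
        (t := T) (g := fun y => (χ : G → ℂ) (t * (k g * y * (k g)⁻¹))) ?_ ?_ ?_ ?_ ?_]
      · rw [← Finset.add_sum_erase _ _ hti, ← Finset.add_sum_erase _ (fun x => (χ : G → ℂ) x) ht,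
          add_sub_cancel_left, add_comm]
        congr 1
        refine Finset.sum_bij' (fun y _ => t * y) (fun y _ => t⁻¹ * y) ?_ ?_ ?_ ?_ ?_
        all_goals intro y hy
        all_goals obtain ⟨hyne, hyT⟩ := Finset.mem_erase.1 hy
        · refine Finset.mem_erase.2 ⟨fun e => (hmT.1 hyT).2 (mul_eq_left.1 e),
            hmT.2 ⟨mul_mem (hTH ht) (hTH hyT), fun e => hyne (eq_inv_of_mul_eq_one_right e)⟩⟩
        · refine Finset.mem_erase.2 ⟨fun e => (hmT.1 hyT).2 (mul_eq_left.1 e),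
            hmT.2 ⟨mul_mem (inv_mem (hTH ht)) (hTH hyT), fun e => hyne ?_⟩⟩
          exact (inv_mul_eq_one.1 e).symm
        · rw [← mul_assoc, inv_mul_cancel, one_mul]
        · rw [← mul_assoc, mul_inv_cancel, one_mul]
        · exact value_twist hM (Finset.mem_filter.1 hχ).2 hH (hKk g) (hTH ht) (hTH hyT)
            fun e => hyne (eq_inv_of_mul_eq_one_right e)
      · intro z hz
        obtain ⟨hzE, hz1⟩ := hmT.1 hz
        refine hmT.2 ⟨(hbij g z).1 hzE, fun e => hz1 ?_⟩
        calc z = g⁻¹ * (k g * ((k g)⁻¹ * (g * z * g⁻¹) * k g) * (k g)⁻¹) * g := by group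
          _ = 1 := by rw [e]; group
      · intro y hy
        obtain ⟨hyE, hy1⟩ := hmT.1 hy
        refine hmT.2 ⟨(hbij g _).2 ?_, fun e => hy1 ?_⟩
        · rwa [show (k g)⁻¹ * (g * (g⁻¹ * (k g * y * (k g)⁻¹) * g) * g⁻¹) * k g = y by group]
        · calc y = (k g)⁻¹ * (g * (g⁻¹ * (k g * y * (k g)⁻¹) * g) * g⁻¹) * k g := by group
            _ = 1 := by rw [e]; group
      · intro z _; group
      · intro y _; group
      · intro z _
        group
    have h2 : ∀ g : G, ∑ t ∈ T, ∑ z ∈ T, (χ : G → ℂ) (t * (g * z * g⁻¹)) =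
        ((T.card : ℂ) - 1) * (S χ : ℂ) + R g χ := by
      intro g
      rw [Finset.sum_congr rfl (h1 g), Finset.sum_add_distrib, Finset.sum_sub_distrib, hSC]
      simp only [Finset.sum_const, nsmul_eq_mul, hR]
      ring
    have h3 : ∑ g : G, ∑ t ∈ T, ∑ z ∈ T, (χ : G → ℂ) (t * (g * z * g⁻¹)) =
        (Nat.card G : ℂ) * ((S χ : ℂ) * (S χ : ℂ)) / (n χ : ℂ) := by
      rw [Finset.sum_comm, ← hn, ← hSC, Finset.sum_mul_sum, Finset.mul_sum, Finset.sum_div]
      refine Finset.sum_congr rfl fun t _ => ?_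
      rw [Finset.sum_comm, Finset.mul_sum, Finset.sum_div]
      refine Finset.sum_congr rfl fun z _ => ?_
      rw [sum_mul_conjugates χ.2, mul_assoc]
    rw [← h3, Finset.sum_congr rfl fun g _ => h2 g, Finset.sum_add_distrib, Finset.sum_const,
      Finset.card_univ, nsmul_eq_mul, Nat.card_eq_fintype_card]
  have hGpos : (0 : ℝ) < Nat.card G := by exact_mod_cast Nat.card_pos
  have hqT : (Nat.card H : ℝ) = (T.card : ℝ) + 1 := by exact_mod_cast hcardT.symm
  have h4 : (4 : ℝ) ≤ T.card := by exact_mod_cast (by omega : 4 ≤ T.card)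
  -- a nonprincipal character does not fix all of `H`
  have hdlt : ∀ χ : Cfsg.IrrCharacter G, χ ≠ trivIrr G → d χ + 1 ≤ n χ := by
    intro χ hne
    by_contra hge
    refine hne (Subtype.ext (funext fun x => ?_))
    have hle : ∀ h : H, ((χ : G → ℂ) h).re ≤ n χ := fun h => by
      refine (Complex.re_le_norm _).trans ((char_norm_le (irr_isCharacter χ) _).trans ?_)
      rw [hn, Complex.norm_natCast]
    have hsum : ∑ h : H, ((χ : G → ℂ) h).re = (Nat.card H : ℝ) * d χ := by
      rw [← Complex.re_sum, hd]; simp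
    have hre : ∀ h : H, ((χ : G → ℂ) h).re = n χ := by
      by_contra hcon
      push Not at hcon
      obtain ⟨h₀, hh₀⟩ := hcon
      have hlt := Finset.sum_lt_sum (fun h _ => hle h)
        ⟨h₀, Finset.mem_univ _, lt_of_le_of_ne (hle h₀) hh₀⟩
      rw [hsum, Finset.sum_const, Finset.card_univ, nsmul_eq_mul,
        ← Nat.card_eq_fintype_card] at hlt
      have : (n χ : ℝ) ≤ d χ := by exact_mod_cast (by omega : n χ ≤ d χ)
      nlinarith [mul_le_mul_of_nonneg_left this (Nat.cast_nonneg (α := ℝ) (Nat.card H))]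
    have hker : Subgroup.normalClosure (H : Set G) ≤
        charKernel (χ : G → ℂ) (irr_isCharacter χ) := by
      haveI := charKernel_normal (G := G) (irr_isCharacter χ)
      refine Subgroup.normalClosure_le_normal fun h hh => ?_
      show (χ : G → ℂ) h = (χ : G → ℂ) 1
      have hnorm := char_norm_le (irr_isCharacter χ) h
      rw [hn, Complex.norm_natCast] at hnorm
      have hsq := pow_le_pow_left₀ (norm_nonneg _) hnorm 2
      rw [Complex.sq_norm, Complex.normSq_apply, hre ⟨h, hh⟩] at hsq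
      rw [hn]
      refine Complex.ext (by rw [hre ⟨h, hh⟩]; simp) ?_
      rw [Complex.natCast_im]
      nlinarith
    rw [hnc] at hker
    have hall : ∀ y : G, (χ : G → ℂ) y = (χ : G → ℂ) 1 := fun y => hker (Subgroup.mem_top y)
    have h1 := classInner_isIrr_self χ.2
    rw [classInner_def, Finset.sum_congr rfl fun y _ => by rw [hall y, hn, map_natCast],
      Finset.sum_const, Finset.card_univ, nsmul_eq_mul, ← Nat.card_eq_fintype_card,
      ← mul_assoc, inv_mul_cancel₀ natCard_ne_zero, one_mul] at h1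
    have hn1 : n χ = 1 := by
      have : n χ * n χ = 1 := by exact_mod_cast h1
      exact Nat.eq_one_of_mul_eq_one_left this
    show (χ : G → ℂ) x = 1
    rw [hall x, hn, hn1, Nat.cast_one]
  -- the bound
  have hbound : ∀ χ ∈ B, χ ≠ trivIrr G →
      (Nat.card H : ℝ) * S χ ≤ (4 * T.card - (Nat.card H : ℝ)) * n χ := by
    intro χ hχ hne
    have hnpos : (0 : ℝ) < n χ := by exact_mod_cast hn0 χ
    have hn' : ((χ : G → ℂ) 1).re = n χ := by rw [hn]; simp
    have hlt : S χ < T.card * (n χ : ℝ) := by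
      have : (d χ : ℝ) + 1 ≤ n χ := by exact_mod_cast hdlt χ hne
      rw [hS]
      simp only
      rw [hqT]
      nlinarith
    have hRre : ∀ g : G, T.card * (4 * (d χ : ℝ) - 3 * n χ) ≤ (R g χ).re := fun g => by
      rw [hR]
      simp only [Complex.re_sum]
      refine le_trans (le_of_eq ?_) (Finset.card_nsmul_le_sum T _ (4 * (d χ : ℝ) - 3 * n χ)
        fun t ht => ?_)
      · rw [nsmul_eq_mul]
      · rw [← hn']
        exact Values.re_twist_ge (irr_isCharacter χ) H (hd χ) (hTH ht) (inv_mem (hTH ht)) (k g)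
    have h := congrArg Complex.re (hid χ hχ)
    simp only [Complex.add_re, Complex.re_sum, ← Complex.ofReal_natCast, ← Complex.ofReal_mul,
      ← Complex.ofReal_div, ← Complex.ofReal_one, ← Complex.ofReal_sub, Complex.ofReal_re] at h
    have h' : (Nat.card G : ℝ) * (T.card * (4 * (d χ : ℝ) - 3 * n χ)) ≤ ∑ g : G, (R g χ).re := by
      calc (Nat.card G : ℝ) * (T.card * (4 * (d χ : ℝ) - 3 * n χ))
            = ∑ _g : G, T.card * (4 * (d χ : ℝ) - 3 * n χ) := by
              rw [Finset.sum_const, Finset.card_univ, nsmul_eq_mul, Nat.card_eq_fintype_card]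
        _ ≤ _ := Finset.sum_le_sum fun g _ => hRre g
    rw [div_eq_iff hnpos.ne'] at h
    have h5 : 0 ≤ S χ * S χ -
        (((T.card : ℝ) - 1) * S χ + T.card * (4 * (d χ : ℝ) - 3 * n χ)) * n χ := by
      refine (mul_nonneg_iff_of_pos_left hGpos).1 ?_
      rw [mul_sub, h]
      have := mul_le_mul_of_nonneg_right h' hnpos.le
      linarith
    have h6 : 0 ≤ (S χ - T.card * n χ) *
        ((Nat.card H : ℝ) * S χ - (4 * T.card - (Nat.card H : ℝ)) * n χ) := by
      have e : (S χ - T.card * n χ) *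
          ((Nat.card H : ℝ) * S χ - (4 * T.card - (Nat.card H : ℝ)) * n χ) =
          (Nat.card H : ℝ) * (S χ * S χ -
            (((T.card : ℝ) - 1) * S χ + T.card * (4 * (d χ : ℝ) - 3 * n χ)) * n χ) := by
        rw [hS]
        simp only
        rw [hqT]
        ring
      rw [e]
      positivity
    by_contra hgt
    push Not at hgt
    exact absurd h6 (not_le.2 (mul_neg_of_neg_of_pos (by linarith) (by linarith)))
  -- orthogonality
  have hRorth : ∀ g : G, ∑ χ ∈ B, (S χ : ℂ) * R g χ = 0 := by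
    intro g
    have hconjS : ∀ χ : Cfsg.IrrCharacter G, (S χ : ℂ) = ∑ t ∈ T, conj ((χ : G → ℂ) t) := fun χ => by
      rw [← map_sum, hSC, Complex.conj_ofReal]
    simp only [hconjS, hR, Finset.mul_sum, Finset.sum_mul]
    rw [Finset.sum_comm]
    refine Finset.sum_eq_zero fun t ht => ?_
    rw [Finset.sum_comm]
    refine Finset.sum_eq_zero fun t' ht' => ?_
    obtain ⟨hK, hinv, hk, -⟩ := hKk g
    have hmem : t * (k g * t⁻¹ * (k g)⁻¹) ∈ K g := by
      rw [show t * (k g * t⁻¹ * (k g)⁻¹) = t * k g * t⁻¹ * (k g)⁻¹ by group]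
      exact mul_mem (hinv t (hTH ht) _ hk) (inv_mem hk)
    have h := sum_block_reg_sing hM (intEl_blockIdem hM (isPBlock_principal M G))
      (not_dvd_orderOf hK hmem) (y := t') (dvd_orderOf hH (hTH ht') (hmT.1 ht').2)
    rw [ZStar.Principal.finsum_mem_eq_sum_filter] at h
    rw [← h]
    exact Finset.sum_congr rfl fun χ _ => mul_comm _ _
  have hmain : ∑ χ ∈ B, S χ ^ 3 / (n χ : ℝ) = ((T.card : ℝ) - 1) * ∑ χ ∈ B, S χ ^ 2 := by
    have h : ∑ χ ∈ B, (S χ : ℂ) * ((Nat.card G : ℂ) * ((S χ : ℂ) * (S χ : ℂ)) / (n χ : ℂ)) =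
        (Nat.card G : ℂ) * (((T.card : ℂ) - 1) * ∑ χ ∈ B, (S χ : ℂ) ^ 2) := by
      rw [Finset.sum_congr rfl fun χ hχ => congrArg ((S χ : ℂ) * ·) (hid χ hχ)]
      simp only [mul_add, Finset.sum_add_distrib]
      have h0 : ∑ χ ∈ B, (S χ : ℂ) * ∑ g : G, R g χ = 0 := by
        simp only [Finset.mul_sum]
        rw [Finset.sum_comm]
        exact Finset.sum_eq_zero fun g _ => hRorth g
      rw [h0, add_zero, Finset.mul_sum, Finset.mul_sum]
      exact Finset.sum_congr rfl fun χ _ => by ring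
    have h' : (Nat.card G : ℝ) * ∑ χ ∈ B, S χ ^ 3 / (n χ : ℝ) =
        (Nat.card G : ℝ) * (((T.card : ℝ) - 1) * ∑ χ ∈ B, S χ ^ 2) := by
      apply Complex.ofReal_injective
      push_cast
      rw [← h, Finset.mul_sum]
      exact Finset.sum_congr rfl fun χ _ => by ring
    exact mul_left_cancel₀ hGpos.ne' h'
  -- the principal character
  have htriv : trivIrr G ∈ B := Finset.mem_filter.2 ⟨Finset.mem_univ _, trivIrr_mem_principal hM⟩
  have hn1 : (n (trivIrr G) : ℝ) = 1 := by
    have := hn (trivIrr G)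
    simp only [trivIrr_coe] at this
    exact_mod_cast this.symm
  have hS1 : S (trivIrr G) = T.card := by
    have := hSC (trivIrr G)
    simp only [trivIrr_coe, Finset.sum_const, nsmul_eq_mul, mul_one] at this
    exact_mod_cast this.symm
  have hrest : (Nat.card H : ℝ) * ∑ χ ∈ B.erase (trivIrr G), S χ ^ 3 / (n χ : ℝ) ≤
      (4 * T.card - (Nat.card H : ℝ)) * ∑ χ ∈ B.erase (trivIrr G), S χ ^ 2 := by
    rw [Finset.mul_sum, Finset.mul_sum]
    refine Finset.sum_le_sum fun χ hχ => ?_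
    have hpos : (0 : ℝ) < n χ := by exact_mod_cast hn0 χ
    rw [mul_div_assoc', div_le_iff₀ hpos]
    have := mul_le_mul_of_nonneg_left
      (hbound χ (Finset.mem_of_mem_erase hχ) (Finset.ne_of_mem_erase hχ)) (sq_nonneg (S χ))
    linarith
  -- the lower bound
  have hlow : 2 * (T.card : ℝ) * Nat.card H ≤ ∑ χ ∈ B, S χ ^ 2 := by
    set P : G → G → ℂ := fun t t' => ∑ χ ∈ B, (χ : G → ℂ) t * conj ((χ : G → ℂ) t') with hP
    have hexp : ∑ χ ∈ B, S χ ^ 2 = ∑ t ∈ T, ∑ t' ∈ T, (P t t').re := by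
      have hc : ((∑ χ ∈ B, S χ ^ 2 : ℝ) : ℂ) = ∑ t ∈ T, ∑ t' ∈ T, P t t' := by
        push_cast
        have hb : ∀ χ : Cfsg.IrrCharacter G,
            (S χ : ℂ) ^ 2 = ∑ t ∈ T, ∑ t' ∈ T, (χ : G → ℂ) t * conj ((χ : G → ℂ) t') := fun χ => by
          rw [← Finset.sum_mul_sum, ← map_sum, hSC, Complex.conj_ofReal, sq]
        simp only [hb, hP]
        rw [Finset.sum_comm]
        exact Finset.sum_congr rfl fun t _ => Finset.sum_comm
      have := congrArg Complex.re hc
      simpa only [Complex.ofReal_re, Complex.re_sum] using this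
    have hdiag : ∀ t ∈ T, ∀ t' ∈ T, IsConj t t' → (Nat.card H : ℝ) ≤ (P t t').re := by
      intro t ht t' _ hc
      refine (card_le_sum_sq hM H hH (exists_orderOf_eq hH (hTH ht)) fun e he => ?_).trans
        (le_of_eq ?_)
      · exact commute_of_mem hab (hTH ht) he
      · rw [hP, Complex.re_sum]
        refine Finset.sum_congr rfl fun χ _ => ?_
        obtain ⟨a, ha⟩ := isConj_iff.1 hc
        rw [← ha, irr_isClassFunction χ t a, Complex.mul_conj', ← Complex.ofReal_pow,
          Complex.ofReal_re]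
    have hzero : ∀ t ∈ T, ∀ t' ∈ T, ¬ IsConj t t' → (P t t').re = 0 := by
      intro t ht t' ht' hc
      have h := sum_block_mul_conj_eq_zero hM (intEl_blockIdem hM (isPBlock_principal M G))
        (g := t) (h := t') (x := t) (z := t')
        ⟨1, mul_one _, Commute.one_right _, exists_orderOf_eq hH (hTH ht), by simp [hpf.out.ne_one]⟩
        ⟨1, mul_one _, Commute.one_right _, exists_orderOf_eq hH (hTH ht'),
          by simp [hpf.out.ne_one]⟩ hc
      rw [ZStar.Principal.finsum_mem_eq_sum_filter] at h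
      rw [hP]
      simp only [← hB] at h ⊢
      rw [h, Complex.zero_re]
    rw [hexp]
    calc 2 * (T.card : ℝ) * Nat.card H = ∑ _t ∈ T, 2 * (Nat.card H : ℝ) := by
          simp; ring
      _ ≤ _ := Finset.sum_le_sum fun t ht => by
          obtain ⟨g, hgE, hgne⟩ := hmove t (hTH ht) (hmT.1 ht).2
          have hgT : g * t * g⁻¹ ∈ T := hmT.2 ⟨hgE, fun e => (hmT.1 ht).2 (conj_eq_one_iff.1 e)⟩
          have hnonneg : ∀ t' ∈ T, 0 ≤ (P t t').re := fun t' ht' => by
            by_cases hc : IsConj t t'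
            · exact (Nat.cast_nonneg _).trans (hdiag t ht t' ht' hc)
            · exact (hzero t ht t' ht' hc).ge
          rw [← Finset.add_sum_erase _ _ ht,
            ← Finset.add_sum_erase _ _ (Finset.mem_erase.2 ⟨hgne, hgT⟩)]
          have := Finset.sum_nonneg (s := (T.erase t).erase (g * t * g⁻¹))
            fun t' ht' => hnonneg t' (Finset.mem_of_mem_erase (Finset.mem_of_mem_erase ht'))
          have := hdiag t ht t ht (IsConj.refl t)
          have := hdiag t ht _ hgT (isConj_iff.2 ⟨g, rfl⟩)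
          linarith
  rw [← Finset.add_sum_erase _ _ htriv, ← Finset.add_sum_erase _ _ htriv, hS1, hn1,
    div_one] at hmain
  rw [← Finset.add_sum_erase _ _ htriv, hS1] at hlow
  rw [hqT] at hlow hrest
  set X := ∑ χ ∈ B.erase (trivIrr G), S χ ^ 2 with hX
  set Y := ∑ χ ∈ B.erase (trivIrr G), S χ ^ 3 / (n χ : ℝ) with hY
  have hXge : (T.card : ℝ) * (T.card + 2) ≤ X := by nlinarith
  have hY' : Y = ((T.card : ℝ) - 1) * X - (T.card : ℝ) ^ 2 := by linarith
  rw [hY'] at hrest
  have hkey : (T.card : ℝ) * ((T.card : ℝ) - 3) * X ≤ ((T.card : ℝ) + 1) * (T.card : ℝ) ^ 2 := by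
    linarith
  have hmono := mul_le_mul_of_nonneg_left hXge
    (mul_nonneg (Nat.cast_nonneg (α := ℝ) T.card) (by linarith : (0 : ℝ) ≤ (T.card : ℝ) - 3))
  have hfin : ((T.card : ℝ) - 3) * (T.card + 2) ≤ T.card + 1 := by
    refine le_of_mul_le_mul_left ?_ (by positivity : (0 : ℝ) < (T.card : ℝ) ^ 2)
    linarith
  nlinarith

end Cfsg.Agent.ExtremelyClosedOdd.BlockSum
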