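import Mathlib
import Cfsg.Prelude.Def_SubgroupEmbedding
import Cfsg.Agent.Lib.Cores.Basic
import Cfsg.Agent.Lib.ExtremelyClosedOdd.Pair
import Cfsg.Agent.S3331

/-!
# An extremely closed subgroup of order three with an inverting element

The class `M` of a generator satisfies `b a ∈ M ∨ b a⁻¹ ∈ M`, so `G = 1 ∪ M ∪ M M` has a
self-centralising subgroup of order three; neither `A₅` nor `PSL(2, 7)` has an extremely closed
one.
-/

set_option autoImplicit false
set_option linter.style.haveILetI false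
set_option linter.unusedSectionVars false
set_option maxRecDepth 4000

namespace Cfsg.Agent.ExtremelyClosedOdd.Three

open Cfsg.Agent.ExtremelyClosedOdd.Pair

universe u

variable {G : Type u} [Group G] [Finite G]

/-- No certificate for a failure of extreme closure can exist in `G`. -/
theorem false_of_cert {H : Subgroup G} (hH3 : Nat.card H = 3) (hcl : Cfsg.IsExtremelyClosed H)
    (hC : Subgroup.centralizer (H : Set G) = H) {L : Type*} [Group L] (e : G ≃* L) (z g w : L)
    (hz : z ^ 3 = 1) (hz1 : z ≠ 1) (hw : w ∈ Subgroup.closure ({z, g * z * g⁻¹} : Set L))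
    (hinv : w * z * w⁻¹ = z⁻¹) : False := by
  haveI : Fact (Nat.Prime 3) := ⟨Nat.prime_three⟩
  have hHp : IsPGroup 3 H := IsPGroup.of_card (n := 1) (by rw [hH3, pow_one])
  obtain ⟨P, hHP⟩ := hHp.exists_le_sylow
  have hPH : (P : Subgroup G) = H := by
    refine le_antisymm ?_ hHP
    haveI : Nontrivial (P : Subgroup G) := (Subgroup.nontrivial_iff_ne_bot _).2 fun h => by
      have := Subgroup.card_le_of_le hHP
      rw [h, Subgroup.card_bot, hH3] at this
      omega
    haveI := P.2.center_nontrivial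
    obtain ⟨c, hc1⟩ := exists_ne (1 : Subgroup.center (P : Subgroup G))
    have hcH : ((c : (P : Subgroup G)) : G) ∈ H := hC ▸ Subgroup.mem_centralizer_iff.2 fun h hh =>
      congrArg Subtype.val (Subgroup.mem_center_iff.1 c.2 ⟨h, hHP hh⟩)
    have hcne : ((c : (P : Subgroup G)) : G) ≠ 1 := fun h => hc1 (Subtype.ext (Subtype.ext h))
    have heq : Subgroup.zpowers ((c : (P : Subgroup G)) : G) = H := by
      refine Subgroup.eq_of_le_of_card_ge (Subgroup.zpowers_le.2 hcH) ?_
      rcases (Nat.dvd_prime Nat.prime_three).1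
        (hH3 ▸ Subgroup.card_dvd_of_le (Subgroup.zpowers_le.2 hcH)) with h | h
      · exact absurd (Subgroup.zpowers_eq_bot.1 (Subgroup.card_eq_one.1 h)) hcne
      · rw [h, hH3]
    intro x hx
    rw [← hC, ← heq]
    refine Subgroup.mem_centralizer_iff.2 fun y hy => ?_
    obtain ⟨i, rfl⟩ := Subgroup.mem_zpowers_iff.1 hy
    exact ((show Commute ((c : (P : Subgroup G)) : G) x from
      (congrArg Subtype.val (Subgroup.mem_center_iff.1 c.2 ⟨x, hx⟩)).symm).zpow_left i).eq
  have hz' : orderOf (e.symm z) = 3 := by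
    rw [MulEquiv.orderOf_eq]
    exact orderOf_eq_prime hz hz1
  have hKp : IsPGroup 3 (Subgroup.zpowers (e.symm z)) :=
    IsPGroup.of_card (n := 1) (by rw [Nat.card_zpowers, hz', pow_one])
  obtain ⟨Q, hKQ⟩ := hKp.exists_le_sylow
  obtain ⟨c, hc⟩ := MulAction.exists_smul_eq G Q P
  set φ : L →* G := (MulAut.conj c).toMonoidHom.comp e.symm.toMonoidHom with hφ
  have hxH : φ z ∈ H := by
    rw [← hPH, ← hc]
    exact Subgroup.smul_mem_pointwise_smul _ (MulAut.conj c) _ (hKQ (Subgroup.mem_zpowers _))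
  have hφinj : Function.Injective φ := (MulAut.conj c).injective.comp e.symm.injective
  have hx1 : φ z ≠ 1 := fun h => hz1 (hφinj (h.trans (map_one φ).symm))
  have hH : Subgroup.zpowers (φ z) = H := by
    refine Subgroup.eq_of_le_of_card_ge (Subgroup.zpowers_le.2 hxH) ?_
    rw [Nat.card_zpowers, orderOf_injective φ hφinj, hH3, orderOf_eq_prime hz hz1]
  have hv : φ w ∈ H ⊔ H.map (MulAut.conj (φ g)).toMonoidHom := by
    refine (?_ : Subgroup.map φ (Subgroup.closure {z, g * z * g⁻¹}) ≤ _) ⟨w, hw, rfl⟩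
    rw [MonoidHom.map_closure, Subgroup.closure_le]
    rintro _ ⟨x, hx, rfl⟩
    rcases hx with rfl | rfl
    · exact Subgroup.mem_sup_left hxH
    · refine Subgroup.mem_sup_right ⟨φ z, hxH, ?_⟩
      simp [map_mul, map_inv]
  have hvz : φ w * φ z * (φ w)⁻¹ = (φ z)⁻¹ := by rw [← map_inv, ← map_mul, ← map_mul, hinv, map_inv]
  have hvN : φ w ∈ Subgroup.normalizer (H : Set G) := mem_normalizer_of_le fun y hy => by
    rw [← hH] at hy
    obtain ⟨i, rfl⟩ := Subgroup.mem_zpowers_iff.1 hy
    rw [← conj_zpow, hvz]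
    exact zpow_mem (inv_mem hxH) i
  have hvH : φ w ∈ H := (hcl (φ g)).le ⟨hv, hvN⟩
  obtain ⟨i, hi⟩ := Subgroup.mem_zpowers_iff.1 (hH.symm ▸ hvH : φ w ∈ Subgroup.zpowers (φ z))
  rw [← hi, (Commute.zpow_self (φ z) i).eq, mul_inv_cancel_right, ← map_inv] at hvz
  refine hz1 ?_
  calc z = z ^ 3 * (z * z)⁻¹ := by group
    _ = 1 := by
      rw [hz, show z * z = 1 by nth_rewrite 2 [hφinj hvz]; exact mul_inv_cancel z]
      simp

/-- No extremely closed subgroup of order three has an inverting element, in a group with trivial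
`O_{3'}` generated by its conjugates. -/
theorem false_of_inverted {H : Subgroup G} (hH3 : Nat.card H = 3)
    (hcl : Cfsg.IsExtremelyClosed H) (hN : Subgroup.normalizer (H : Set G) ≠ ⊤)
    (hO : Cfsg.pPrimeCore 3 G = ⊥) (hnc : Subgroup.normalClosure (H : Set G) = ⊤) {z : G}
    (hz : z ∈ H) (hz1 : z ≠ 1) (hinv : ∃ n : G, n * z * n⁻¹ = z⁻¹) : False := by
  haveI : Fact (Nat.Prime 3) := ⟨Nat.prime_three⟩
  have hHp : IsPGroup 3 H := IsPGroup.of_card (n := 1) (by rw [hH3, pow_one])
  have hHz : Subgroup.zpowers z = H := by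
    refine Subgroup.eq_of_le_of_card_ge (Subgroup.zpowers_le.2 hz) ?_
    rcases (Nat.dvd_prime Nat.prime_three).1
      (hH3 ▸ Subgroup.card_dvd_of_le (Subgroup.zpowers_le.2 hz)) with h | h
    · exact absurd (Subgroup.zpowers_eq_bot.1 (Subgroup.card_eq_one.1 h)) hz1
    · rw [h, hH3]
  have hab : IsMulCommutative H := hHz ▸ inferInstance
  have hoz : orderOf z = 3 := by rw [← Nat.card_zpowers, hHz, hH3]
  have hz3 : z ^ 3 = 1 := hoz ▸ pow_orderOf_eq_one z
  have hz2 : z * z = z⁻¹ := eq_inv_of_mul_eq_one_left (by rw [← pow_two, ← pow_succ, hz3])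
  have hsym : ∀ x, IsConj z x → IsConj z x⁻¹ := by
    intro x hx
    obtain ⟨n, hn⟩ := hinv
    obtain ⟨g, rfl⟩ := isConj_iff.1 hx
    exact isConj_iff.2 ⟨g * n, by
      rw [show g * n * z * (g * n)⁻¹ = g * (n * z * n⁻¹) * g⁻¹ by group, hn]; group⟩
  have hconj : ∀ a x, IsConj z x → IsConj z (a * x * a⁻¹) := fun a x hx =>
    hx.trans (isConj_iff.2 ⟨a, rfl⟩)
  have hgen : ∀ v : G, v = z ∨ v = z⁻¹ → IsConj z v ∧ (∀ s, Commute v s → Commute z s) := by
    rintro v (rfl | rfl)
    · exact ⟨IsConj.refl _, fun s h => h⟩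
    · exact ⟨hsym z (IsConj.refl _), fun s h => by simpa using h.inv_left⟩
  -- the twist of a conjugate of `z`
  have htwist : ∀ b, IsConj z b → ∃ w : G, (w = z ∨ w = z⁻¹) ∧ ∃ K : Subgroup G,
      ¬ 3 ∣ Nat.card K ∧ w⁻¹ * b ∈ K ∧ (∀ h ∈ H, ∀ x ∈ K, h * x * h⁻¹ ∈ K) ∧
        (∀ x ∈ K, Commute z x → x = 1) := by
    intro b hb
    obtain ⟨g, rfl⟩ := isConj_iff.1 hb
    obtain ⟨k, K, hK⟩ := exists_twist H hHp hab hcl g
    set w := (k⁻¹ * g) * z * (k⁻¹ * g)⁻¹ with hw
    have hwH : w ∈ H := (Subgroup.mem_normalizer_iff.1 hK.norm z).1 hz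
    have hcases : ∀ v ∈ H, v ≠ 1 → v = z ∨ v = z⁻¹ := by
      intro v hv hv1
      rw [← hHz, Subgroup.mem_zpowers_iff] at hv
      obtain ⟨i, rfl⟩ := hv
      rw [← zpow_mod_orderOf, hoz] at hv1 ⊢
      rcases (by omega : i % (3 : ℕ) = 0 ∨ i % (3 : ℕ) = 1 ∨ i % (3 : ℕ) = 2) with h | h | h
      · rw [h, zpow_zero] at hv1; exact absurd rfl hv1
      · left; rw [h, zpow_one]
      · right; rw [h, zpow_two, hz2]
    refine ⟨w, hcases w hwH fun h => hz1 (conj_eq_one_iff.1 h), K, hK.cop, ?_, hK.inv,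
      fun x hx hcx => hK.disj x hx ?_⟩
    · rw [show w⁻¹ * (g * z * g⁻¹) = w⁻¹ * k * w * k⁻¹ by rw [hw]; group]
      refine mul_mem ?_ (inv_mem hK.mem)
      have := hK.inv _ (inv_mem hwH) k hK.mem
      rwa [inv_inv] at this
    · refine mem_normalizer_of_le fun y hy => ?_
      rw [← hHz, Subgroup.mem_zpowers_iff] at hy
      obtain ⟨i, rfl⟩ := hy
      rw [← (hcx.zpow_left i).eq, mul_inv_cancel_right]
      exact zpow_mem hz i
  -- the basic step, and the order of `b z`
  have hstep : ∀ b, IsConj z b → (IsConj z (b * z) ∨ IsConj z (b * z⁻¹)) ∧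
      (IsConj z (b * z) ∨ ¬ 3 ∣ orderOf (b * z)) := by
    intro b hb
    obtain ⟨w, hw, K, hK, hr, hKinv, hfix⟩ := htwist b hb
    set r := w⁻¹ * b with hrdef
    have hbr : b = w * r := by rw [hrdef]; group
    have hzr : ∀ v : G, v = z ∨ v = z⁻¹ → ∀ q ∈ K, IsConj z (v * q) := by
      intro v hv q hq
      have hvH : v ∈ H := by rcases hv with rfl | rfl <;> simp [hz]
      obtain ⟨c, -, hc⟩ := exists_conj_eq hK (u := v)
        (IsPGroup.iff_orderOf.1 hHp ⟨v, hvH⟩ |>.imp fun a ha => by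
          rwa [Subgroup.orderOf_mk] at ha)
        (hKinv v hvH) (fun s hs hcs => hfix s hs ((hgen v hv).2 s hcs)) hq
      exact hc ▸ hconj c v (hgen v hv).1
    rcases hw with rfl | rfl
    · have : IsConj w (b * w) := by
        rw [hbr, show w * r * w = w * w * (w⁻¹ * r * w) by group, hz2]
        refine hzr _ (Or.inr rfl) _ ?_
        have := hKinv _ (inv_mem hz) r hr
        rwa [inv_inv] at this
      exact ⟨Or.inl this, Or.inl this⟩
    · refine ⟨Or.inr ?_, Or.inr ?_⟩
      · rw [hbr, show z⁻¹ * r * z⁻¹ = z⁻¹ * z⁻¹ * (z * r * z⁻¹) by group, ← mul_inv_rev, hz2,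
          inv_inv]
        exact hzr z (Or.inl rfl) _ (hKinv z hz r hr)
      · refine not_dvd_orderOf hK ?_
        rw [hbr]
        have := hKinv _ (inv_mem hz) r hr
        rwa [inv_inv] at this
  have hstep' : ∀ b a, IsConj z b → IsConj z a → IsConj z (b * a) ∨ IsConj z (b * a⁻¹) := by
    intro b a hb ha
    obtain ⟨g, rfl⟩ := isConj_iff.1 ha
    refine ((hstep (g⁻¹ * b * g) ?_).1).imp (fun h => ?_) fun h => ?_
    · simpa using hconj g⁻¹ b hb
    · convert hconj g _ h using 1; group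
    · convert hconj g _ h using 1; group
  -- the whole group
  have hall : ∀ y : G, y = 1 ∨ IsConj z y ∨ ∃ b c, IsConj z b ∧ IsConj z c ∧ y = b * c := by
    let Y : G → Prop := fun y =>
      y = 1 ∨ IsConj z y ∨ ∃ b c, IsConj z b ∧ IsConj z c ∧ y = b * c
    have hmul : ∀ y a, Y y → IsConj z a → Y (y * a) := by
      intro y a hy ha
      rcases hy with rfl | hy | ⟨b, c, hb, hc, rfl⟩
      · exact Or.inr (Or.inl (by rwa [one_mul]))
      · exact Or.inr (Or.inr ⟨y, a, hy, ha, rfl⟩)
      · rcases hstep' b c hb hc with h | h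
        · exact Or.inr (Or.inr ⟨b * c, a, h, ha, rfl⟩)
        rcases hstep' c a hc ha with h' | h'
        · exact Or.inr (Or.inr ⟨b, c * a, hb, h', mul_assoc _ _ _⟩)
        refine Or.inr (Or.inr ⟨b * c⁻¹, c⁻¹ * a, h, ?_, ?_⟩)
        · convert hconj c⁻¹ _ (hsym _ h') using 1; group
        · have hc3 : c⁻¹ * c⁻¹ = c := by
            obtain ⟨g, rfl⟩ := isConj_iff.1 hc
            rw [show (g * z * g⁻¹)⁻¹ * (g * z * g⁻¹)⁻¹ = g * (z * z)⁻¹ * g⁻¹ by group, hz2, inv_inv]
          rw [mul_assoc b c⁻¹, ← mul_assoc c⁻¹, hc3, mul_assoc]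
    intro y
    have hy : y ∈ Subgroup.closure (Group.conjugatesOfSet ({z} : Set G)) := by
      have : y ∈ Subgroup.normalClosure (H : Set G) := hnc ▸ Subgroup.mem_top y
      have hle : Subgroup.normalClosure (H : Set G) ≤ Subgroup.normalClosure ({z} : Set G) := by
        refine Subgroup.normalClosure_le_normal fun h hh => ?_
        have hmem : z ∈ Subgroup.normalClosure ({z} : Set G) :=
          Subgroup.subset_normalClosure (Set.mem_singleton z)
        obtain ⟨i, hi⟩ := Subgroup.mem_zpowers_iff.1 (show h ∈ Subgroup.zpowers z by rw [hHz]; exact hh)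
        exact hi ▸ zpow_mem hmem i
      exact hle this
    have hcj : ∀ a ∈ Group.conjugatesOfSet ({z} : Set G), IsConj z a := fun a ha => by
      obtain ⟨x, hx, hxa⟩ := Group.mem_conjugatesOfSet_iff.1 ha
      rwa [Set.mem_singleton_iff.1 hx] at hxa
    show Y y
    induction hy using Subgroup.closure_induction_right with
    | one => exact Or.inl rfl
    | mul_right x hx y hy hYx => exact hmul x y hYx (hcj y hy)
    | mul_inv_cancel x hx y hy hYx => exact hmul x y⁻¹ hYx (hsym y (hcj y hy))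
  have hord : ∀ y : G, IsConj z y ∨ ¬ 3 ∣ orderOf y := by
    intro y
    rcases hall y with rfl | hy | ⟨b, c, hb, hc, rfl⟩
    · exact Or.inr (by simp)
    · exact Or.inl hy
    · obtain ⟨g, rfl⟩ := isConj_iff.1 hc
      rcases (hstep (g⁻¹ * b * g) (by simpa using hconj g⁻¹ b hb)).2 with h | h
      · left; convert hconj g _ h using 1; group
      · right
        rw [show b * (g * z * g⁻¹) = MulAut.conj g (g⁻¹ * b * g * z) by
          show _ = g * (g⁻¹ * b * g * z) * g⁻¹; group, MulEquiv.orderOf_eq]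
        exact h
  have hcz : ∀ y, Commute z y → y ∈ H := by
    have hM : ∀ y, IsConj z y → Commute z y → y ∈ H := by
      intro y hy hcy
      obtain ⟨w, hw, K, -, hr, -, hfix⟩ := htwist y hy
      have hwH : w ∈ H := by rcases hw with rfl | rfl <;> simp [hz]
      have hwz : Commute z w := commute_of_mem hab hz hwH
      rw [← inv_mul_eq_one.1 (hfix _ hr (hwz.inv_right.mul_right hcy))]
      exact hwH
    intro y hcy
    rcases hord y with h | h
    · exact hM y h hcy
    have hco : orderOf (z * y) = orderOf z * orderOf y :=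
      hcy.orderOf_mul_eq_mul_orderOf_of_coprime (by
        rw [hoz]; exact Nat.prime_three.coprime_iff_not_dvd.2 h)
    have h' : IsConj z (z * y) := (hord (z * y)).resolve_right fun h' =>
      h' (by rw [hco, hoz]; exact dvd_mul_right 3 _)
    have := hM _ h' ((Commute.refl z).mul_right hcy)
    simpa using mul_mem (inv_mem hz) this
  have hC : Subgroup.centralizer (H : Set G) = H :=
    le_antisymm (fun y hy => hcz y (Subgroup.mem_centralizer_iff.1 hy z hz)) fun y hy =>
      Subgroup.mem_centralizer_iff.2 fun x hx => commute_of_mem hab hx hy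
  rcases Cfsg.Agent.S3331.result H hH3 hC with
    ⟨N, hNn, -, hcop, hq⟩ | ⟨N, hNn, -, hN2, ⟨e⟩⟩ | ⟨⟨e⟩⟩
  · have hNbot : N = ⊥ := eq_bot_iff.2 (hO ▸ Cores.le_pPrimeCore hcop)
    have hG : Nat.card G = Nat.card (G ⧸ N) := by
      rw [N.card_eq_card_quotient_mul_card_subgroup]; simp [hNbot]
    have h36 : Nat.card G = 3 ∨ Nat.card G = 6 := by
      rcases hq with h | ⟨⟨e⟩⟩
      · exact Or.inl (hG.trans h)
      · right
        rw [hG, Nat.card_congr e.toEquiv, Nat.card_perm, Nat.card_fin]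
        rfl
    rcases h36 with h | h
    · refine hN ?_
      rw [show H = ⊤ from Subgroup.eq_top_of_card_eq H (hH3.trans h.symm)]
      exact Subgroup.normalizer_eq_top ⊤
    · have := H.card_mul_index
      rw [hH3, h] at this
      haveI : H.Normal := Subgroup.normal_of_index_eq_two (by omega)
      exact hN (Subgroup.normalizer_eq_top H)
  · have hNbot : N = ⊥ := by
      refine eq_bot_iff.2 (hO ▸ Cores.le_pPrimeCore ((Nat.prime_three.coprime_iff_not_dvd.2 ?_).symm))
      intro h3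
      obtain ⟨x, hx⟩ := exists_prime_orderOf_dvd_card' (G := N) 3 h3
      have h2 : orderOf x ∣ 2 := orderOf_dvd_of_pow_eq_one (Subtype.ext (hN2 x x.2))
      rw [hx] at h2
      norm_num at h2
    subst hNbot
    let e' : G ≃* alternatingGroup (Fin 5) := QuotientGroup.quotientBot.symm.trans e
    let z' : alternatingGroup (Fin 5) := ⟨c[0, 1, 2], Equiv.Perm.mem_alternatingGroup.2 (by decide)⟩
    let g' : alternatingGroup (Fin 5) := ⟨c[1, 3] * c[2, 4], Equiv.Perm.mem_alternatingGroup.2 (by decide)⟩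
    let w' : alternatingGroup (Fin 5) := ⟨c[0, 2] * c[3, 4], Equiv.Perm.mem_alternatingGroup.2 (by decide)⟩
    refine false_of_cert hH3 hcl hC e' z' g' w' (by decide) (by decide) ?_ (by decide)
    have hz' : z' ∈ Subgroup.closure ({z', g' * z' * g'⁻¹} : Set _) :=
      Subgroup.subset_closure (by simp)
    have hy' : g' * z' * g'⁻¹ ∈ Subgroup.closure ({z', g' * z' * g'⁻¹} : Set _) :=
      Subgroup.subset_closure (by simp)
    generalize hy : g' * z' * g'⁻¹ = y at hy' ⊢
    rw [show w' = y * z' * z' * y * y * z' * y by subst hy; decide]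
    subst hy
    exact mul_mem (mul_mem (mul_mem (mul_mem (mul_mem (mul_mem hy' hz') hz') hy') hy') hz') hy'
  · let π := QuotientGroup.mk' (Subgroup.center (Matrix.SpecialLinearGroup (Fin 2) (ZMod 7)))
    let z' : Matrix.SpecialLinearGroup (Fin 2) (ZMod 7) := ⟨!![2, 0; 0, 4], by decide⟩
    let g' : Matrix.SpecialLinearGroup (Fin 2) (ZMod 7) := ⟨!![1, 1; 5, 6], by decide⟩
    let w' : Matrix.SpecialLinearGroup (Fin 2) (ZMod 7) := ⟨!![0, 2; 3, 0], by decide⟩
    have hwz : w' * z' * w'⁻¹ = z'⁻¹ := Subtype.ext (by decide)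
    refine false_of_cert hH3 hcl hC e (π z') (π g') (π w') ?_ ?_ ?_ ?_
    · rw [← map_pow, show z' ^ 3 = 1 from Subtype.ext (by decide), map_one]
    · intro h1
      have hc := Subgroup.mem_center_iff.1 ((QuotientGroup.eq_one_iff z').1 h1) w'
      rw [hc, mul_inv_cancel_right] at hwz
      exact absurd (congrArg Subtype.val hwz) (by decide)
    · rw [← map_inv, ← map_mul, ← map_mul]
      refine (show Subgroup.map π (Subgroup.closure {z', g' * z' * g'⁻¹}) ≤ _ by
        rw [MonoidHom.map_closure, Set.image_pair]) ⟨w', ?_, rfl⟩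
      have hz' : z' ∈ Subgroup.closure ({z', g' * z' * g'⁻¹} : Set _) :=
        Subgroup.subset_closure (by simp)
      have hy' : g' * z' * g'⁻¹ ∈ Subgroup.closure ({z', g' * z' * g'⁻¹} : Set _) :=
        Subgroup.subset_closure (by simp)
      generalize hy : g' * z' * g'⁻¹ = y at hy' ⊢
      rw [show w' = y * z' * y * y * z' * y by subst hy; exact Subtype.ext (by decide)]
      subst hy
      exact mul_mem (mul_mem (mul_mem (mul_mem (mul_mem hy' hz') hy') hy') hz') hy'
    · rw [← map_inv, ← map_mul, ← map_mul, hwz, map_inv]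

end Cfsg.Agent.ExtremelyClosedOdd.Three
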