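import Mathlib
import Cfsg.Prelude.Def_SubgroupEmbedding
import Cfsg.Agent.S3021
import Cfsg.Agent.Lib.Cores.Basic
import Cfsg.Agent.Lib.ExtremelyClosedOdd.Pair
import Cfsg.Agent.Lib.ExtremelyClosedOdd.Action
import Cfsg.Agent.Lib.ExtremelyClosedOdd.BlockSum
import Cfsg.Agent.Lib.ExtremelyClosedOdd.Three

/-!
# Abelian extremely closed p-subgroups for odd p

`G = N(H) O_{p'}(G)` by induction on the group order, and then `⟨H^G⟩ ∩ N(H) = H` as
`[O_{p'}(G), H]` has no fixed point of `H`.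
-/

set_option autoImplicit false
set_option linter.style.haveILetI false
set_option linter.unusedSectionVars false

namespace Cfsg.Agent.ExtremelyClosedOdd.Main

open Cfsg.Agent.ExtremelyClosedOdd.Pair
open scoped commutatorElement

universe u

/-- The conclusion for all groups of order less than `n`. -/
def Smaller (p : ℕ) (n : ℕ) : Prop :=
  ∀ (G : Type u) [Group G] [Finite G], Nat.card G < n → ∀ H : Subgroup G, IsPGroup p H →
    IsMulCommutative H → Cfsg.IsExtremelyClosed H →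
      Subgroup.normalizer (H : Set G) ⊔ Cfsg.pPrimeCore p G = ⊤

variable {G : Type u} [Group G] [Finite G] {H : Subgroup G} {p : ℕ} [hpf : Fact p.Prime]

theorem isMulCommutative_map {G' : Type u} [Group G'] (f : G →* G') (hab : IsMulCommutative H) :
    IsMulCommutative (H.map f) := by
  refine ⟨⟨fun a b => Subtype.ext ?_⟩⟩
  obtain ⟨x, hx, hxa⟩ := a.2
  obtain ⟨y, hy, hyb⟩ := b.2
  show (a : G') * b = b * a
  rw [← hxa, ← hyb, ← map_mul, ← map_mul]
  exact congrArg f (congrArg Subtype.val (hab.is_comm.comm (⟨x, hx⟩ : H) ⟨y, hy⟩))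

theorem subgroupOf_isMulCommutative (C : Subgroup G) (hab : IsMulCommutative H) :
    IsMulCommutative (H.subgroupOf C) :=
  ⟨⟨fun a b => Subtype.ext (Subtype.ext
    (congrArg Subtype.val (hab.is_comm.comm (⟨_, a.2⟩ : H) ⟨_, b.2⟩) :))⟩⟩

theorem subgroupOf_closed {C : Subgroup G} (hHC : H ≤ C) (hcl : Cfsg.IsExtremelyClosed H) :
    Cfsg.IsExtremelyClosed (H.subgroupOf C) := by
  intro c
  refine le_antisymm ?_ (le_inf le_sup_left Subgroup.le_normalizer)
  rintro x ⟨hx, hn⟩
  have h1 : (x : G) ∈ H ⊔ H.map (MulAut.conj (c : G)).toMonoidHom := by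
    have hle : (H.subgroupOf C ⊔ (H.subgroupOf C).map (MulAut.conj c).toMonoidHom) ≤
        (H ⊔ H.map (MulAut.conj (c : G)).toMonoidHom).subgroupOf C := by
      refine sup_le (fun y hy => Subgroup.mem_sup_left hy) ?_
      rintro _ ⟨y, hy, rfl⟩
      exact Subgroup.mem_sup_right ⟨y, hy, rfl⟩
    exact hle hx
  have h2 : (x : G) ∈ Subgroup.normalizer (H : Set G) := mem_normalizer_of_le fun h hh =>
    (Subgroup.mem_normalizer_iff.1 hn ⟨h, hHC hh⟩).1 hh
  exact (hcl c).le ⟨h1, h2⟩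

theorem of_subgroup (ind : Smaller.{u} p (Nat.card G)) {C : Subgroup G} (hC : C ≠ ⊤) (hHC : H ≤ C)
    (hp : IsPGroup p H) (hab : IsMulCommutative H) (hcl : Cfsg.IsExtremelyClosed H) :
    Subgroup.normalizer ((H.subgroupOf C : Subgroup C) : Set C) ⊔ Cfsg.pPrimeCore p C = ⊤ :=
  ind C (lt_of_le_of_ne (Subgroup.card_le_card_group C) fun h =>
      hC (Subgroup.eq_top_of_card_eq C h)) _
    (hp.of_equiv (Subgroup.subgroupOfEquivOfLe hHC).symm) (subgroupOf_isMulCommutative C hab)
    (subgroupOf_closed hHC hcl)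

/-- The p'-part of a twist at a centraliser. -/
theorem mem_core_centralizer (ind : Smaller.{u} p (Nat.card G)) (hp : IsPGroup p H)
    (hab : IsMulCommutative H) (hcl : Cfsg.IsExtremelyClosed H) {u : G} (hu : u ∈ H)
    (hC : Subgroup.centralizer ({u} : Set G) ≠ ⊤) {g k : G} {K : Subgroup G}
    (hK : IsTwist p H g k K) {s : G} (hs : s ∈ K) (hsC : s ∈ Subgroup.centralizer ({u} : Set G)) :
    (⟨s, hsC⟩ : Subgroup.centralizer ({u} : Set G)) ∈
      Cfsg.pPrimeCore p (Subgroup.centralizer ({u} : Set G)) := by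
  set C := Subgroup.centralizer ({u} : Set G) with hCdef
  have hHC : H ≤ C := fun h hh => Subgroup.mem_centralizer_singleton_iff.2
    (congrArg Subtype.val (hab.is_comm.comm (⟨h, hh⟩ : H) ⟨u, hu⟩))
  have hN := of_subgroup ind hC hHC hp hab hcl
  refine mem_of_conj_le (H := H.subgroupOf C) (K := K.subgroupOf C) (N := Cfsg.pPrimeCore p C)
    (hp.of_equiv (Subgroup.subgroupOfEquivOfLe hHC).symm) ?_
    (fun h hh x hx => hK.inv _ hh _ hx) (fun x hx hn => Subtype.ext (hK.disj _ hx ?_)) hs ?_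
  · refine fun hd => hK.cop (hd.trans ?_)
    rw [← Subgroup.card_map_of_injective C.subtype_injective, Subgroup.subgroupOf_map_subtype]
    exact Subgroup.card_dvd_of_le inf_le_left
  · exact mem_normalizer_of_le fun h hh => (Subgroup.mem_normalizer_iff.1 hn ⟨h, hHC hh⟩).1 hh
  · intro h hh
    have hmem : (⟨s, hsC⟩ : C) ∈
        Subgroup.normalizer ((H.subgroupOf C : Subgroup C) : Set C) ⊔ Cfsg.pPrimeCore p C := by
      rw [hN]; exact Subgroup.mem_top _
    obtain ⟨m, hm, o, ho, he⟩ := Subgroup.mem_sup_of_normal_right.1 hmem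
    rw [← he, show m * o * h * (m * o)⁻¹ =
      m * (o * (h * o⁻¹ * h⁻¹)) * m⁻¹ * (m * h * m⁻¹) by group]
    exact mul_mem (Subgroup.mem_sup_left ((inferInstance : (Cfsg.pPrimeCore p C).Normal).conj_mem _
        (mul_mem ho ((inferInstance : (Cfsg.pPrimeCore p C).Normal).conj_mem _ (inv_mem ho) h)) m))
      (Subgroup.mem_sup_right ((Subgroup.mem_normalizer_iff.1 hm h).1 hh))

/-- The case of a nontrivial `O_{p'}`. -/
theorem of_core_ne_bot (ind : Smaller.{u} p (Nat.card G)) (hp : IsPGroup p H)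
    (hab : IsMulCommutative H) (hcl : Cfsg.IsExtremelyClosed H) (hO : Cfsg.pPrimeCore p G ≠ ⊥) :
    Subgroup.normalizer (H : Set G) ⊔ Cfsg.pPrimeCore p G = ⊤ := by
  set O := Cfsg.pPrimeCore p G with hOdef
  set π := QuotientGroup.mk' O with hπ
  have hlt : Nat.card (G ⧸ O) < Nat.card G := by
    rw [O.card_eq_card_quotient_mul_card_subgroup]
    exact lt_mul_of_one_lt_right Nat.card_pos (Subgroup.one_lt_card_iff_ne_bot _ |>.2 hO)
  have hker : ∀ x, π x ∈ H.map π → x ∈ O ⊔ H := fun x hx => by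
    have : x ∈ (H.map π).comap π := hx
    rwa [Subgroup.comap_map_eq, hπ, QuotientGroup.ker_mk', sup_comm] at this
  have hcl' : Cfsg.IsExtremelyClosed (H.map π) := by
    intro gbar
    obtain ⟨g, rfl⟩ := QuotientGroup.mk'_surjective O gbar
    refine le_antisymm ?_ (le_inf le_sup_left Subgroup.le_normalizer)
    rintro _ ⟨hx, hn⟩
    have heq : H.map π ⊔ (H.map π).map (MulAut.conj (π g)).toMonoidHom =
        (H ⊔ H.map (MulAut.conj g).toMonoidHom).map π := by
      rw [Subgroup.map_sup, Subgroup.map_map, Subgroup.map_map]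
      congr 2
    rw [heq] at hx
    obtain ⟨x, hx, rfl⟩ := hx
    obtain ⟨k, K, hK⟩ := exists_twist H hp hab hcl g
    obtain ⟨a, ha, b, hb, rfl⟩ := hK.decomp x hx
    have haO : a ∈ O := mem_of_conj_le hp hK.cop hK.inv hK.disj ha fun h hh => hker _ (by
      have hb' : π b ∈ Subgroup.normalizer ((H.map π : Subgroup (G ⧸ O)) : Set (G ⧸ O)) :=
        Subgroup.le_normalizer (Subgroup.mem_map_of_mem π hb)
      have ha' : π a ∈ Subgroup.normalizer ((H.map π : Subgroup (G ⧸ O)) : Set (G ⧸ O)) := by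
        rw [show π a = π (a * b) * (π b)⁻¹ by rw [map_mul, mul_inv_cancel_right]]
        exact mul_mem hn (inv_mem hb')
      rw [map_mul, map_mul, map_inv]
      exact (Subgroup.mem_normalizer_iff.1 ha' _).1 (Subgroup.mem_map_of_mem π hh))
    refine ⟨b, hb, ?_⟩
    rw [map_mul, show π a = 1 from (QuotientGroup.eq_one_iff a).2 haO, one_mul]
  have h := ind (G ⧸ O) hlt _ (hp.map π) (isMulCommutative_map π hab) hcl'
  have hbot : Cfsg.pPrimeCore p (G ⧸ O) = ⊥ := Cores.pPrimeCore_quotient_self p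
  rw [hbot, sup_bot_eq] at h
  refine (Subgroup.eq_top_iff' _).2 fun g => ?_
  obtain ⟨k, K, hK⟩ := exists_twist H hp hab hcl g
  have hkO : k ∈ O := mem_of_conj_le hp hK.cop hK.inv hK.disj hK.mem fun x hx => hker _ (by
    have hk : π k ∈ Subgroup.normalizer ((H.map π : Subgroup (G ⧸ O)) : Set (G ⧸ O)) := by
      rw [h]; exact Subgroup.mem_top _
    rw [map_mul, map_mul, map_inv]
    exact (Subgroup.mem_normalizer_iff.1 hk _).1 (Subgroup.mem_map_of_mem π hx))
  rw [show g = k * (k⁻¹ * g) by group]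
  exact mul_mem (Subgroup.mem_sup_right hkO) (Subgroup.mem_sup_left hK.norm)

/-- A nontrivial normal subgroup inside `H` makes `H` normal. -/
theorem normal_of_normal_le (ind : Smaller.{u} p (Nat.card G)) (hO : Cfsg.pPrimeCore p G = ⊥)
    (hp : IsPGroup p H) (hab : IsMulCommutative H) (hcl : Cfsg.IsExtremelyClosed H)
    {E : Subgroup G} [E.Normal] (hE : E ≠ ⊥) (hEH : E ≤ H) :
    Subgroup.normalizer (H : Set G) = ⊤ := by
  set π := QuotientGroup.mk' E with hπ
  have hlt : Nat.card (G ⧸ E) < Nat.card G := by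
    rw [E.card_eq_card_quotient_mul_card_subgroup]
    exact lt_mul_of_one_lt_right Nat.card_pos (Subgroup.one_lt_card_iff_ne_bot _ |>.2 hE)
  have hker : ∀ x, π x ∈ H.map π → x ∈ H := fun x hx => by
    have : x ∈ (H.map π).comap π := hx
    rwa [Subgroup.comap_map_eq, hπ, QuotientGroup.ker_mk', sup_eq_left.2 hEH] at this
  have hnorm : ∀ x, π x ∈ Subgroup.normalizer ((H.map π : Subgroup (G ⧸ E)) : Set (G ⧸ E)) →
      x ∈ Subgroup.normalizer (H : Set G) := fun x hx => mem_normalizer_of_le fun h hh =>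
    hker _ (by
      rw [map_mul, map_mul, map_inv]
      exact (Subgroup.mem_normalizer_iff.1 hx _).1 (Subgroup.mem_map_of_mem π hh))
  have hcl' : Cfsg.IsExtremelyClosed (H.map π) := by
    intro gbar
    obtain ⟨g, rfl⟩ := QuotientGroup.mk'_surjective E gbar
    refine le_antisymm ?_ (le_inf le_sup_left Subgroup.le_normalizer)
    rintro _ ⟨hx, hn⟩
    have heq : H.map π ⊔ (H.map π).map (MulAut.conj (π g)).toMonoidHom =
        (H ⊔ H.map (MulAut.conj g).toMonoidHom).map π := by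
      rw [Subgroup.map_sup, Subgroup.map_map, Subgroup.map_map]
      congr 2
    rw [heq] at hx
    obtain ⟨x, hx, rfl⟩ := hx
    exact Subgroup.mem_map_of_mem π ((hcl g).le ⟨hx, hnorm x hn⟩)
  have h := ind (G ⧸ E) hlt _ (hp.map π) (isMulCommutative_map π hab) hcl'
  set R := (Cfsg.pPrimeCore p (G ⧸ E)).comap π with hR
  haveI : R.Normal := Subgroup.Normal.comap inferInstance π
  have hRN : R ≤ Subgroup.normalizer (H : Set G) := by
    intro q hq
    obtain ⟨k, K, hK⟩ := exists_twist H hp hab hcl q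
    have hcopK : ∀ x ∈ K, ¬ p ∣ orderOf x := fun x hx => not_dvd_orderOf hK.cop hx
    have hMR : H ⊔ H.map (MulAut.conj q).toMonoidHom ≤ R ⊔ H := by
      refine sup_le le_sup_right ?_
      rintro _ ⟨x, hx, rfl⟩
      show q * x * q⁻¹ ∈ R ⊔ H
      rw [show q * x * q⁻¹ = q * (x * q⁻¹ * x⁻¹) * x by group]
      exact mul_mem (Subgroup.mem_sup_left (mul_mem hq
        ((inferInstance : R.Normal).conj_mem _ (inv_mem hq) x))) (Subgroup.mem_sup_right hx)
    have hKR : ∀ x ∈ K, x ∈ R := fun x hx =>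
      mem_of_mem_sup hp (hcopK x hx) (hMR (hK.le hx))
    have hKE : ∀ x ∈ K, x ∈ Subgroup.centralizer (E : Set G) := by
      intro x hx
      refine Subgroup.mem_centralizer_iff.2 fun e he => ?_
      have h1 : x * e * x⁻¹ * e⁻¹ ∈ E :=
        mul_mem ((inferInstance : E.Normal).conj_mem e he x) (inv_mem he)
      have h2 : x * e * x⁻¹ * e⁻¹ ∈ K := by
        rw [show x * e * x⁻¹ * e⁻¹ = x * (e * x⁻¹ * e⁻¹) by group]
        exact mul_mem hx (hK.inv e (hEH he) _ (inv_mem hx))
      have h3 := hK.disj _ h2 (Subgroup.le_normalizer (hEH h1))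
      rw [mul_inv_eq_one, mul_inv_eq_iff_eq_mul] at h3
      exact h3.symm
    set D := R ⊓ Subgroup.centralizer (E : Set G) with hD
    haveI : (Subgroup.centralizer (E : Set G)).Normal := inferInstance
    haveI hDn : D.Normal := Subgroup.normal_inf_normal _ _
    have hED : E ≤ D := le_inf (fun e he => by
        show π e ∈ Cfsg.pPrimeCore p (G ⧸ E)
        rw [show π e = 1 from (QuotientGroup.eq_one_iff e).2 he]
        exact one_mem _) fun e he => Subgroup.mem_centralizer_iff.2 fun f hf =>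
      congrArg Subtype.val (hab.is_comm.comm (⟨f, hEH hf⟩ : H) ⟨e, hEH he⟩)
    set E' := E.subgroupOf D with hE'
    have hE'p : IsPGroup p E' :=
      (hp.to_le hEH).of_equiv (Subgroup.subgroupOfEquivOfLe hED).symm
    obtain ⟨P, hEP⟩ := hE'p.exists_le_sylow
    have hPE : ∀ x : D, x ∈ (P : Subgroup D) → (x : G) ∈ E := by
      intro x hx
      obtain ⟨a, ha⟩ := P.2 ⟨x, hx⟩
      have ha' : (x : G) ^ p ^ a = 1 := by
        simpa using congrArg (fun z : (P : Subgroup D) => ((z : D) : G)) ha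
      refine (QuotientGroup.eq_one_iff _).1 (eq_one_of_not_dvd_pow (p := p) (x := π (x : G)) ?_ (a := a) ?_)
      · exact not_dvd_orderOf (Cores.pPrimeCore_not_dvd p)
          (show π (x : G) ∈ Cfsg.pPrimeCore p (G ⧸ E) from x.2.1)
      · rw [← map_pow, ha', map_one]
    have hPc : Subgroup.normalizer ((P : Subgroup D) : Set D) ≤
        Subgroup.centralizer ((P : Subgroup D) : Set D) := fun x _ =>
      Subgroup.mem_centralizer_iff.2 fun y hy => Subtype.ext
        (Subgroup.mem_centralizer_iff.1 x.2.2 _ (hPE y hy))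
    have hc := MonoidHom.ker_transferSylow_isComplement' P hPc
    set W := (MonoidHom.transferSylow P hPc).ker with hW
    have hWcop : ¬ p ∣ Nat.card W := by
      rw [← hc.index_eq_card]
      exact P.not_dvd_index
    have hWmem : ∀ x : D, ¬ p ∣ orderOf x → x ∈ W := fun x hx => by
      rw [hW, MonoidHom.mem_ker]
      obtain ⟨a, ha⟩ := P.2 (MonoidHom.transferSylow P hPc x)
      exact eq_one_of_not_dvd_pow (p := p) (fun hd => hx (hd.trans (orderOf_map_dvd _ x))) ha
    haveI : (W.map D.subtype).Normal := by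
      refine ⟨?_⟩
      rintro _ ⟨y, hy, rfl⟩ g
      refine ⟨⟨g * (y : G) * g⁻¹, hDn.conj_mem _ y.2 g⟩, hWmem _ ?_, rfl⟩
      rw [Subgroup.orderOf_mk, show g * (y : G) * g⁻¹ = MulAut.conj g (y : G) from rfl,
        MulEquiv.orderOf_eq, Subgroup.orderOf_coe]
      exact not_dvd_orderOf hWcop hy
    have hWbot := Cores.le_pPrimeCore (p := p) (N := W.map D.subtype) (by
      rw [Subgroup.card_map_of_injective D.subtype_injective]
      exact (hpf.out.coprime_iff_not_dvd.2 hWcop).symm)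
    rw [hO] at hWbot
    have hkD : k ∈ D := ⟨hKR k hK.mem, hKE k hK.mem⟩
    have hk1 : k = 1 := Subgroup.mem_bot.1 (hWbot ⟨⟨k, hkD⟩, hWmem _ (by
      rw [← Subgroup.orderOf_coe]; exact hcopK k hK.mem), rfl⟩)
    have := hK.norm
    rwa [hk1, inv_one, one_mul] at this
  refine (Subgroup.eq_top_iff' _).2 fun g => ?_
  have hg : π g ∈ Subgroup.normalizer ((H.map π : Subgroup (G ⧸ E)) : Set (G ⧸ E)) ⊔
      Cfsg.pPrimeCore p (G ⧸ E) := by rw [h]; exact Subgroup.mem_top _
  obtain ⟨m, hm, o, ho, he⟩ := Subgroup.mem_sup_of_normal_right.1 hg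
  obtain ⟨m', rfl⟩ := QuotientGroup.mk'_surjective E m
  rw [show g = m' * (m'⁻¹ * g) by group]
  exact mul_mem (hnorm _ hm) (hRN (show π (m'⁻¹ * g) ∈ Cfsg.pPrimeCore p (G ⧸ E) by
    rw [map_mul, map_inv, ← he, inv_mul_cancel_left]; exact ho))

theorem zpowers_normal_of_mem_center {z : G} (hz : z ∈ Subgroup.center G) :
    (Subgroup.zpowers z).Normal := ⟨fun a ha g => by
  rwa [Subgroup.mem_center_iff.1 (Subgroup.zpowers_le.2 hz ha) g, mul_inv_cancel_right]⟩

/-- The case of a trivial `O_{p'}`. -/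
theorem normalizer_eq_top (ind : Smaller.{u} p (Nat.card G)) (hp2 : p ≠ 2)
    (hO : Cfsg.pPrimeCore p G = ⊥)
    (hp : IsPGroup p H) (hab : IsMulCommutative H) (hcl : Cfsg.IsExtremelyClosed H) :
    Subgroup.normalizer (H : Set G) = ⊤ := by
  by_contra hne
  set N := Subgroup.normalizer (H : Set G) with hN
  have hnoE : ∀ E : Subgroup G, E.Normal → E ≤ H → E = ⊥ := fun E hEn hEH => by
    by_contra hE
    exact hne (normal_of_normal_le ind hO hp hab hcl hE hEH)
  have hcen : ∀ u ∈ H, u ≠ 1 → u ∉ Subgroup.center G := fun u hu hu1 hc =>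
    hu1 (Subgroup.zpowers_eq_bot.1 (hnoE _ (zpowers_normal_of_mem_center hc)
      (Subgroup.zpowers_le.2 hu)))
  have hHne : H ≠ ⊥ := fun h => hne (by
    rw [hN, h]; exact (Subgroup.eq_top_iff' _).2 fun g => mem_normalizer_of_le fun x hx => by
      rw [Subgroup.mem_bot.1 hx]; simp)
  have hcore : ∀ g k K, IsTwist p H g k K → BlockSum.IsCoreTwist p H k K := fun g k K hK =>
    ⟨hK.cop, hK.inv, hK.mem, fun u hu hu1 s hs hsC =>
      mem_core_centralizer ind hp hab hcl hu (fun h => hcen u hu hu1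
        (Subgroup.mem_center_iff.2 fun x =>
          Subgroup.mem_centralizer_singleton_iff.1 (h ▸ Subgroup.mem_top x))) hK hs hsC⟩
  have hgenX : ∀ X : Set G, X ⊆ H → ∀ z ∈ X, z ≠ 1 → Subgroup.normalClosure X ⊔ H = ⊤ := by
    intro X hXH z hz hz1
    set L := Subgroup.normalClosure X with hL
    by_contra htop
    have h := of_subgroup ind htop le_sup_right hp hab hcl
    set O' := Cfsg.pPrimeCore p ↥(L ⊔ H) with hO'
    have hbot : O' = ⊥ := by
      have hOL : Cfsg.pPrimeCore p ↥L = ⊥ := by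
        have := Cores.map_pPrimeCore_subtype_le p L
        rwa [hO, le_bot_iff, Subgroup.map_eq_bot_iff_of_injective _ L.subtype_injective] at this
      let f : ↥L →* ↥(L ⊔ H) := Subgroup.inclusion le_sup_left
      have hcomap : O'.comap f ≤ Cfsg.pPrimeCore p ↥L := by
        haveI : (O'.comap f).Normal := Subgroup.Normal.comap inferInstance f
        refine Cores.le_pPrimeCore ((Cores.pPrimeCore_card_coprime p).coprime_dvd_left
          (?_ : Nat.card (O'.comap f) ∣ Nat.card O'))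
        rw [← Subgroup.card_map_of_injective (Subgroup.inclusion_injective le_sup_left)]
        exact Subgroup.card_dvd_of_le (Subgroup.map_comap_le _ _)
      rw [eq_bot_iff]
      intro x hx
      have hxL : (x : G) ∈ L := by
        refine mem_of_mem_sup hp ?_ x.2
        rw [Subgroup.orderOf_coe]
        exact not_dvd_orderOf (Cores.pPrimeCore_not_dvd p) hx
      have hmem : (⟨x, hxL⟩ : L) ∈ O'.comap f := hx
      have := hcomap hmem
      rw [hOL, Subgroup.mem_bot] at this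
      exact Subtype.ext (show (x : G) = 1 from congrArg Subtype.val this :)
    rw [hbot, sup_bot_eq] at h
    have hLN : L ≤ N := fun x hx => mem_normalizer_of_le fun y hy => by
      have hx' : (⟨x, Subgroup.mem_sup_left hx⟩ : ↥(L ⊔ H)) ∈ Subgroup.normalizer
          ((H.subgroupOf (L ⊔ H) : Subgroup ↥(L ⊔ H)) : Set ↥(L ⊔ H)) := by
        rw [h]; exact Subgroup.mem_top _
      exact (Subgroup.mem_normalizer_iff.1 hx' ⟨y, Subgroup.mem_sup_right hy⟩).1 hy
    have hLH : L ≤ H := by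
      rw [hL, Subgroup.normalClosure, Subgroup.closure_le]
      intro x hx
      obtain ⟨e, he, hconj⟩ := Group.mem_conjugatesOfSet_iff.1 hx
      obtain ⟨g, rfl⟩ := isConj_iff.1 hconj
      obtain ⟨k, K, hK⟩ := exists_twist H hp hab hcl g
      set e' := k⁻¹ * g * e * (k⁻¹ * g)⁻¹ with hedef
      have heL : e' ∈ L :=
        Subgroup.normalClosure_normal.conj_mem e (Subgroup.subset_normalClosure he) _
      have heH : e' ∈ H := (Subgroup.mem_normalizer_iff.1 hK.norm e).1 (hXH he)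
      have h1 : k * e' * k⁻¹ * e'⁻¹ ∈ L :=
        mul_mem (Subgroup.normalClosure_normal.conj_mem _ heL k) (inv_mem heL)
      have h2 : k * e' * k⁻¹ * e'⁻¹ ∈ K := by
        rw [show k * e' * k⁻¹ * e'⁻¹ = k * (e' * k⁻¹ * e'⁻¹) by group]
        exact mul_mem hK.mem (hK.inv _ heH _ (inv_mem hK.mem))
      have h3 := hK.disj _ h2 (hLN h1)
      rw [mul_inv_eq_one] at h3
      show g * e * g⁻¹ ∈ H
      rw [show g * e * g⁻¹ = k * e' * k⁻¹ by rw [hedef]; group, h3]
      exact heH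
    have hzL : z ∈ L := Subgroup.subset_normalClosure hz
    rw [hnoE L Subgroup.normalClosure_normal hLH, Subgroup.mem_bot] at hzL
    exact hz1 hzL
  by_cases hfixed : ∃ z ∈ H, z ≠ 1 ∧ ∀ n ∈ N, n * z * n⁻¹ = z
  · obtain ⟨z, hz, hz1, hzfix⟩ := hfixed
    obtain ⟨P, hHP⟩ := hp.exists_le_sylow
    have hPN : (P : Subgroup G) ≤ N := ((Cfsg.Agent.S3021.result H hp hcl).2 P hHP).1
    have hPz : ∀ e ∈ (P : Subgroup G), Commute z e := fun e he =>
      (mul_inv_eq_iff_eq_mul.1 (hzfix e (hPN he))).symm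
    have hgen : Values.commClosure z ⊔ (P : Subgroup G) = ⊤ := by
      refine eq_top_iff.2 ((hgenX {z} (Set.singleton_subset_iff.2 hz) z rfl hz1).ge.trans
        (sup_le ?_ (hHP.trans le_sup_right)))
      rw [Subgroup.normalClosure, Subgroup.closure_le]
      intro x hx
      obtain ⟨e, he, hconj⟩ := Group.mem_conjugatesOfSet_iff.1 hx
      obtain ⟨g, rfl⟩ := isConj_iff.1 hconj
      rw [Set.mem_singleton_iff.1 he, show g * z * g⁻¹ = g * z * g⁻¹ * z⁻¹ * z by group]
      exact mul_mem (Subgroup.mem_sup_left (Values.comm_mem_commClosure z g))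
        (Subgroup.mem_sup_right (hHP hz))
    refine BlockSum.false_of_fixed hp2 hO hp hz (hcen z hz hz1) P hPz hgen fun g => ?_
    obtain ⟨k, K, hK⟩ := exists_twist H hp hab hcl g
    refine ⟨k, K, hcore g k K hK, ?_⟩
    conv_rhs => rw [← hzfix _ hK.norm]
    group
  push Not at hfixed
  obtain ⟨z₀, hz₀, hz₀1⟩ := H.bot_or_exists_ne_one.resolve_left hHne
  have hnc : Subgroup.normalClosure (H : Set G) = ⊤ := by
    have := hgenX (H : Set G) subset_rfl z₀ hz₀ hz₀1
    rwa [sup_eq_left.2 Subgroup.le_normalClosure] at this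
  have hmove : ∀ z ∈ H, z ≠ 1 → ∃ g : G, g * z * g⁻¹ ∈ H ∧ g * z * g⁻¹ ≠ z := fun z hz hz1 => by
    obtain ⟨n, hn, hne'⟩ := hfixed z hz hz1
    exact ⟨n, (Subgroup.mem_normalizer_iff.1 hn z).1 hz, hne'⟩
  by_cases h5 : 5 ≤ Nat.card H
  · refine BlockSum.false_of_moving hp hab h5 hnc hmove fun g => ?_
    obtain ⟨k, K, hK⟩ := exists_twist H hp hab hcl g
    refine ⟨k, K, hcore g k K hK, fun z => ?_⟩
    rw [show k⁻¹ * (g * z * g⁻¹) * k = (k⁻¹ * g) * z * (k⁻¹ * g)⁻¹ by group]
    exact Subgroup.mem_normalizer_iff.1 hK.norm z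
  obtain ⟨a, ha⟩ := IsPGroup.iff_card.1 hp
  have hp3 : p = 3 ∧ Nat.card H = 3 := by
    have hp5 := hpf.out.two_le
    rcases a with _ | _ | a
    · exact absurd (Subgroup.card_eq_one.1 (by rw [ha, pow_zero])) hHne
    · rw [pow_one] at ha
      have h4 : p ≠ 4 := fun h => absurd (h ▸ hpf.out) (by norm_num)
      omega
    · have : 3 ^ 2 ≤ p ^ (a + 1 + 1) :=
        (Nat.pow_le_pow_left (by omega : 3 ≤ p) 2).trans (Nat.pow_le_pow_right (by omega) (by omega))
      omega
  obtain ⟨rfl, h3⟩ := hp3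
  obtain ⟨g, hgH, hgne⟩ := hmove z₀ hz₀ hz₀1
  refine Three.false_of_inverted h3 hcl hne hO hnc hz₀ hz₀1 ⟨g, ?_⟩
  have hz : Subgroup.zpowers z₀ = H := Subgroup.eq_of_le_of_card_ge (Subgroup.zpowers_le.2 hz₀) (by
    rcases (Nat.dvd_prime Nat.prime_three).1
      (h3 ▸ Subgroup.card_dvd_of_le (Subgroup.zpowers_le.2 hz₀)) with h | h
    · exact absurd (Subgroup.zpowers_eq_bot.1 (Subgroup.card_eq_one.1 h)) hz₀1
    · rw [h, h3])
  have hoz : orderOf z₀ = 3 := by rw [← Nat.card_zpowers, hz, h3]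
  rw [← hz, Subgroup.mem_zpowers_iff] at hgH
  obtain ⟨i, hi⟩ := hgH
  rw [← hi] at hgne ⊢
  rw [← zpow_mod_orderOf, hoz] at hgne ⊢
  rcases (by omega : i % (3 : ℕ) = 0 ∨ i % (3 : ℕ) = 1 ∨ i % (3 : ℕ) = 2) with h | h | h
  · rw [← zpow_mod_orderOf, hoz, h, zpow_zero] at hi
    exact absurd (conj_eq_one_iff.1 hi.symm) hz₀1
  · rw [h, zpow_one] at hgne; exact absurd rfl hgne
  · rw [h, eq_inv_iff_mul_eq_one, ← zpow_add_one, show (2 : ℤ) + 1 = ((3 : ℕ) : ℤ) by norm_num,
      zpow_natCast, ← hoz, pow_orderOf_eq_one]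

theorem smaller (hp2 : p ≠ 2) : ∀ n : ℕ, Smaller.{u} p n := by
  intro n
  induction n with
  | zero => exact fun G _ _ h => absurd h (Nat.not_lt_zero _)
  | succ n ih =>
    intro G _ _ hlt H hp hab hcl
    rcases Nat.lt_succ_iff_lt_or_eq.1 hlt with h | h
    · exact ih G h H hp hab hcl
    subst h
    by_cases hO : Cfsg.pPrimeCore p G = ⊥
    · rw [normalizer_eq_top ih hp2 hO hp hab hcl, top_sup_eq]
    · exact of_core_ne_bot ih hp hab hcl hO

theorem normalizer_sup_core (hp2 : p ≠ 2) (hp : IsPGroup p H) (hab : IsMulCommutative H)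
    (hcl : Cfsg.IsExtremelyClosed H) :
    Subgroup.normalizer (H : Set G) ⊔ Cfsg.pPrimeCore p G = ⊤ :=
  smaller hp2 _ G (Nat.lt_succ_self _) H hp hab hcl

theorem normalClosure_inf_normalizer (hp2 : p ≠ 2) (hp : IsPGroup p H) (hab : IsMulCommutative H)
    (hcl : Cfsg.IsExtremelyClosed H) :
    Subgroup.normalClosure (H : Set G) ⊓ Subgroup.normalizer (H : Set G) = H := by
  refine le_antisymm ?_ (le_inf Subgroup.le_normalClosure Subgroup.le_normalizer)
  have hA := normalizer_sup_core hp2 hp hab hcl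
  set O := Cfsg.pPrimeCore p G with hO
  have hOn : O.Normal := inferInstance
  have hOp : ¬ p ∣ Nat.card O := Cores.pPrimeCore_not_dvd p
  have hHO : H ≤ Subgroup.normalizer (O : Set G) := Subgroup.le_normalizer_of_normal
  have hHn : H ≤ Subgroup.normalizer ((⁅O, H⁆ : Subgroup G) : Set G) :=
    Subgroup.normalizer_commutator_ge_right O H
  have hW := Action.commutator_inf_centralizer_eq_bot hp2 hp hab _ O rfl hOp hHO fun x _ => by
    rw [eq_bot_iff]
    rintro y ⟨⟨hy, hyO⟩, hyC⟩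
    have hyN : y ∈ Subgroup.normalizer (H : Set G) := mem_normalizer_of_le fun h hh => by
      rw [← Subgroup.mem_centralizer_iff.1 hyC h hh, mul_inv_cancel_right]; exact hh
    exact eq_one_of_mem_inf hp hOp ((hcl x).le ⟨hy, hyN⟩) hyO
  have hle : Subgroup.normalClosure (H : Set G) ≤ ⁅O, H⁆ ⊔ H := by
    rw [Subgroup.normalClosure, Subgroup.closure_le]
    intro x hx
    obtain ⟨e, he, hconj⟩ := Group.mem_conjugatesOfSet_iff.1 hx
    obtain ⟨g, rfl⟩ := isConj_iff.1 hconj
    obtain ⟨o, ho, m, hm, rfl⟩ := Subgroup.mem_sup_of_normal_left.1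
      (by rw [sup_comm, hA]; exact Subgroup.mem_top g : g ∈ O ⊔ Subgroup.normalizer (H : Set G))
    have he' : m * e * m⁻¹ ∈ H := (Subgroup.mem_normalizer_iff.1 hm e).1 he
    rw [show o * m * e * (o * m)⁻¹ =
      ⁅o, m * e * m⁻¹⁆ * (m * e * m⁻¹) by rw [commutatorElement_def]; group]
    exact mul_mem (Subgroup.mem_sup_left (Subgroup.commutator_mem_commutator ho he'))
      (Subgroup.mem_sup_right he')
  rintro x ⟨hx, hxN⟩
  obtain ⟨w, hw, h, hh, rfl⟩ := (Coprime.mem_sup_of_le_normalizer hHn).1 (hle hx)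
  have hwN : w ∈ Subgroup.normalizer (H : Set G) := by
    rw [show w = w * h * h⁻¹ by group]
    exact mul_mem hxN (Subgroup.le_normalizer (inv_mem hh))
  have hwC : w ∈ Subgroup.centralizer (H : Set G) := by
    refine Subgroup.mem_centralizer_iff.2 fun a ha => ?_
    have hwO : w ∈ O := Coprime.commutator_le_of_le_normalizer hHO hw
    have h1 : w * a * w⁻¹ * a⁻¹ ∈ H :=
      mul_mem ((Subgroup.mem_normalizer_iff.1 hwN a).1 ha) (inv_mem ha)
    have h2 : w * a * w⁻¹ * a⁻¹ ∈ O := by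
      rw [show w * a * w⁻¹ * a⁻¹ = w * (a * w⁻¹ * a⁻¹) by group]
      exact mul_mem hwO (hOn.conj_mem _ (inv_mem hwO) a)
    have h3 := eq_one_of_mem_inf hp hOp h1 h2
    rw [mul_inv_eq_one, mul_inv_eq_iff_eq_mul] at h3
    exact h3.symm
  have : w ∈ ⁅O, H⁆ ⊓ Subgroup.centralizer (H : Set G) := ⟨hw, hwC⟩
  rw [hW, Subgroup.mem_bot] at this
  rw [this, one_mul]
  exact hh

end Cfsg.Agent.ExtremelyClosedOdd.Main
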